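import Cfsg.Agent.Lib.JFourUniq.Data

/-!
# The evaluated certificates
-/

set_option autoImplicit false
set_option maxRecDepth 100000
-- one check at a time, each frees its memory
set_option Elab.async false

namespace CfsgLib.JFourUniq

open CfsgLib.Golay (inM24)

/-- The first standard generator as a code. -/
def xC : Code := (0, 651249720424513949337076594912658503)

/-- The second standard generator as a code. -/
def yC : Code := (0, 983991652821723117977489914538052777)

/-- Its inverse as a code. -/
def yiC : Code := (0, 984150769626977145061008152743790251)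

/-- The octad involution as a code. -/
def eC : Code := (0, 777112432189642213387772994482408576)

/-- The three letters. -/
def gen3 : List Code := [xC, yC, yiC]

/-- Two codes differ at a point. -/
def cNe (g h : Code) : Bool :=
  !(Nat.beq g.1 h.1) || (List.range 24).any fun i => !(Nat.beq (Golay.ap g.2 i) (Golay.ap h.2 i))

/-- A code is a vector. -/
def isVec (g : Code) : Bool := Nat.beq g.2 idP

/-- A nonzero vector outside the pairs. -/
def isOct (g : Code) : Bool := isVec g && !(Nat.beq g.1 0) && !(isPair g.1)

/-- A vector of a pair. -/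
def isPairC (g : Code) : Bool := isVec g && !(Nat.beq g.1 0) && isPair g.1

/-- Conjugation in codes. -/
def conjTo (c g h : Code) : Bool := cEq (cMul c g) (cMul h c)

/-- A word in the fixed generators. -/
def fixW (w : List ℕ) : Bool := w.all fun k => Nat.blt k 12

/-- A word in the generators normalizing the element of order three. -/
def normW (w : List ℕ) : Bool := w.all fun k => Nat.blt k 6

/-- A word. -/
def anyW (w : List ℕ) : Bool := w.all fun k => Nat.blt k 18

/-- The words of the elements fixing the pair. -/
def pairWs : List (List ℕ) := [[0], [1], [2]] ++ pairGw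

/-- The group of order nine. -/
def nineL : List Code :=
  [cOne, nineB, cMul nineB nineB, nineA, cMul nineA nineB, cMul nineA (cMul nineB nineB),
    cMul nineA nineA, cMul (cMul nineA nineA) nineB, cMul (cMul nineA nineA) (cMul nineB nineB)]

/-- The list for the fixed vectors of an element of the group of order nine. -/
def nineG (i : ℕ) : List Code :=
  (nineV.getD i []).map (fun v => (v, idP)) ++ [nineA, nineB]

/-- The candidates for an element of the group of order nine. -/
def nineC (i : ℕ) : List Code := (nineE.getD i []).map fun v => (v, idP)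

/-- Evidence on a candidate for the commutator. -/
def rejOK (c : Code) : Rej → Bool
  | .ok => cEq (cMul c alC) tgC
  | .vec => isVec (cMul c alC) && (Nat.beq (cMul c alC).1 0 || !(isPair (cMul c alC).1))
  | .octad k => okC k && conjTo k (cMul c alC) eC
  | .comm w T b => normW w && okC T && Nat.blt b 2048 && conjTo (cWord genC w) alC (b, idP) &&
      conjTo (cWord genC w) (cMul c alC) T && cNe (cMul (cMul c alC) T) (cMul T (cMul c alC))
  | .type w T b k => normW w && okC T && okC k && Nat.blt b 2048 && conjTo (cWord genC w) alC (b, idP) &&
      conjTo (cWord genC w) (cMul c alC) T && isOct (cMul alC (b, idP)) &&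
      conjTo k (cMul (cMul c alC) T) xC

/-- The list for the first relation. -/
def r1L : List Code := cWord genC r1b :: r1G.map fun p => cWord imgC p.2

/-- The lists for the second relation. -/
def r2L : List Code := cWord genC r2b :: r2G.map fun p => cWord imgC p.2

/-- The second list for the second relation. -/
def r2L2 : List Code := cWord genC r2b2 :: r2G2.map fun p => cWord imgC p.2.2

/-- A candidate moved to the image of a pair. -/
def movedOK (c k : Code) (w : List ℕ) : Bool :=
  okC k && anyW w && isPairC (cWord genC w) && conjTo k c (cWord imgC w)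

/-- Evidence for the first relation. -/
def r1OK (c : Code) : Wit → Bool
  | .ok => cEq (cMul (cMul (cWord imgC r1y) c) (cMul (cMul (cWord imgC r1y) c) (cMul (cWord imgC r1y) c))) cOne
  | .moved k w => movedOK c k w
  | .semi _ => false
  | .pair => false
  | .img _ _ => false

/-- Evidence for the first step of the second relation. -/
def r2OK (c : Code) : Wit → Bool
  | .ok => cEq c r2X
  | .moved k w => movedOK c k w
  | .img w _ => anyW w && cEq c (cWord imgC w)
  | .semi _ => false
  | .pair => false

/-- Evidence for the second step of the second relation. -/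
def r2OK2 (c : Code) : Wit → Bool
  | .ok => cEq (cMul (cMul (cMul (cWord imgC r2a2) c) (cWord imgC r2x2))
      (cMul (cMul (cWord imgC r2a2) c) (cWord imgC r2x2))) cOne
  | .pair => isPairC c
  | .img w v => anyW w && anyW v && cEq c (cWord imgC v) &&
      conjTo r2c2 (cWord imgC w) (cWord genC v)
  | .semi _ => false
  | .moved _ _ => false

theorem act_idP : ((List.range 2048).all fun n => Nat.beq (act idP n) n) = true := by decide +kernel

theorem consts_ok : ([cOne, xC, yC, yiC, eC, e3C, e3iC, alC, e3pC, dC, cdC, tgC, nineA, nineB, uC, vC,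
    viC, aC, y1C, r1c, r2c, r2k, r2X, r2c2].all okC && genC.all okC && imgC.all okC && nineL.all okC) = true := by
  decide +kernel

theorem three_ok : (cEq (cMul e3C (cMul e3C e3C)) cOne && cEq (cMul e3C e3iC) cOne && cNe e3C cOne &&
    cEq alC (23, idP) && isPair 23 && conjTo alC e3C e3pC && cEq (cMul alC alC) cOne &&
    cEq (cMul dC dC) cOne && cNe dC cOne && conjTo cdC dC xC && cEq (cMul dC e3C) (cMul e3C dC) &&
    cEq (cMul dC e3pC) (cMul e3pC dC) && cNe xC cOne && cEq (cMul xC xC) cOne) = true := by decide +kernel

theorem norm_ok : ((List.range 6).all fun k =>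
    conjTo (genC.getD k cOne) e3C e3C || conjTo (genC.getD k cOne) e3C e3iC) = true := by decide +kernel

theorem nine_ok : ((List.range 9).all fun i => (List.range 9).all fun j =>
    ((List.range 9).any fun k => cEq (cMul (nineL.getD i cOne) (nineL.getD j cOne)) (nineL.getD k cOne)) &&
      (Nat.beq i j || cNe (nineL.getD i cOne) (nineL.getD j cOne))) = true := by decide +kernel

theorem nine_inv : ((List.range 9).all fun i => (List.range 9).any fun j =>
    cEq (cMul (nineL.getD i cOne) (nineL.getD j cOne)) cOne) = true := by decide +kernel

theorem nine_al : ((List.range 9).all fun i =>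
    cEq (cMul (nineL.getD i cOne) alC) (cMul alC (nineL.getD i cOne))) = true := by decide +kernel

theorem nine_comm : ((List.range 9).all fun i =>
    cEq (cMul nineA (nineL.getD i cOne)) (cMul (nineL.getD i cOne) nineA) &&
      cEq (cMul nineB (nineL.getD i cOne)) (cMul (nineL.getD i cOne) nineB)) = true := by decide +kernel

theorem nine_fix : ((List.range 8).all fun i => (nineV.getD i []).all fun v => Nat.blt v 2048 &&
    cEq (cMul (v, idP) (nineL.getD (i + 1) cOne)) (cMul (nineL.getD (i + 1) cOne) (v, idP))) = true := by
  decide +kernel

/-- The check for one element of the group of order nine. -/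
def nineOK (i : ℕ) : Bool :=
  centOK (nineG i) (nineO.getD i []) (nineC i) && (nineC i).all okC

theorem nineOK_0 : nineOK 0 = true := by decide +kernel

theorem nineOK_1 : nineOK 1 = true := by decide +kernel

theorem nineOK_2 : nineOK 2 = true := by decide +kernel

theorem nineOK_3 : nineOK 3 = true := by decide +kernel

theorem nineOK_4 : nineOK 4 = true := by decide +kernel

theorem nineOK_5 : nineOK 5 = true := by decide +kernel

theorem nineOK_6 : nineOK 6 = true := by decide +kernel

theorem nineOK_7 : nineOK 7 = true := by decide +kernel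

theorem nine_search : ((List.range 8).all nineOK) = true := by
  simp [List.range_succ, nineOK_0, nineOK_1, nineOK_2, nineOK_3, nineOK_4, nineOK_5, nineOK_6, nineOK_7]

theorem notN_ok : centOK notNG notNO [] = true := by decide +kernel

theorem notN_eq : notNG = (List.range 6).map (fun k => genC.getD k cOne) := by decide +kernel

theorem pair_ok : centOK pairG pairO (pairE.map Prod.fst) = true := by decide +kernel

theorem pair_gens : (pairG.all fun g => cEq g alC ||
    (cEq (cMul g alC) (cMul alC g) && pairWs.any fun w => normW w && cEq (cWord genC w) g)) = true := by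
  decide +kernel

theorem pair_rej : (pairE.all fun p => okC p.1 && rejOK p.1 p.2) = true := by decide +kernel

theorem img_fixed : ((List.range 12).all fun k => cEq (genC.getD k cOne) (imgC.getD k cOne)) = true := by
  decide +kernel

theorem img_pairs : ((List.range 6).all fun i =>
    normW (baW.getD i []) && conjTo (cWord genC (baW.getD i [])) alC (genC.getD (12 + i) cOne) &&
      conjTo (cWord genC (baW.getD i [])) tgC (imgC.getD (12 + i) cOne) &&
      cEq (cMul (genC.getD (12 + i) cOne) (imgC.getD (12 + i) cOne)) (genC.getD (6 + i) cOne) &&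
      cEq (cMul (imgC.getD (12 + i) cOne) (genC.getD (12 + i) cOne)) (genC.getD (6 + i) cOne)) = true := by
  decide +kernel

theorem t_words : (fixW xWord && fixW wWord && cEq (cWord genC xWord) xC &&
    cEq (cWord genC wWord) (cWord gen3 [1, 0, 1, 0, 2, 0, 2, 0, 1, 0, 1, 0, 1]) &&
    cEq uC (cWord gen3 [1, 0, 2, 0, 1, 0, 2, 0]) &&
    cEq aC (cWord gen3 (List.replicate 3 [1, 0, 1, 0, 1, 0, 1]).flatten) &&
    cEq vC (cWord gen3 ((List.replicate 3 [0, 1]).flatten ++ 1 :: ((List.replicate 6 [0, 1]).flatten ++ [1]))) &&
    cEq (cMul viC vC) cOne && cEq (cMul vC viC) cOne && cEq (cMul yC yiC) cOne) = true := by decide +kernel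

theorem r1_ok : (conjTo uC yC y1C && fixW r1d && anyW r1b && anyW r1y && isPairC (cWord genC r1b) &&
    conjTo r1c (cWord genC r1d) (cWord imgC r1b) && conjTo (cWord genC r1d) y1C y1C &&
    conjTo r1c y1C (cWord genC r1y) &&
    r1G.all fun p => fixW p.1 && anyW p.2 && conjTo r1c (cWord genC p.1) (cWord genC p.2)) = true := by
  decide +kernel

theorem r1_cand : (r1E.all fun p => okC p.1 && r1OK p.1 p.2) = true := by decide +kernel

theorem r1_search : centOK r1L r1O (r1E.map Prod.fst) = true := by decide +kernel

theorem r2_ok : (fixW r2d && fixW r2dv && fixW r2h && anyW r2o && anyW r2a && anyW r2b && anyW r2b2 &&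
    anyW r2a2 && anyW r2x2 && isPairC (cWord genC r2b) && isPairC (cWord genC r2b2) &&
    conjTo (cWord genC r2d) aC aC && conjTo vC (cWord genC r2d) (cWord genC r2dv) &&
    cEq (cMul r2c viC) r2k && conjTo r2c aC (cWord genC r2a) &&
    conjTo r2c (cWord genC r2d) (cWord genC r2o) && conjTo r2k (cWord genC r2h) (cWord imgC r2b) &&
    conjTo r2c2 (cWord imgC r2o) (cWord imgC r2b2) && conjTo r2c2 (cWord imgC r2a) (cWord genC r2a2) &&
    conjTo r2c2 r2X (cWord genC r2x2)) = true := by decide +kernel

theorem r2_gens : ((r2G.all fun p => fixW p.1 && anyW p.2 && conjTo r2k (cWord genC p.1) (cWord genC p.2)) &&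
    r2G2.all fun p => fixW p.1 && anyW p.2.1 && anyW p.2.2 &&
      conjTo r2c (cWord genC p.1) (cWord genC p.2.1) && conjTo r2c2 (cWord imgC p.2.1) (cWord genC p.2.2)) = true := by
  decide +kernel

theorem r2_cand : ((r2E.all fun p => okC p.1 && r2OK p.1 p.2) && r2E2.all fun p => okC p.1 && r2OK2 p.1 p.2) = true := by
  decide +kernel

theorem r2_search : centOK r2L r2O (r2E.map Prod.fst) = true := by decide +kernel

theorem r2_search2 : centOK r2L2 r2O2 (r2E2.map Prod.fst) = true := by decide +kernel

theorem mathieu_rels : ([[0, 0], [1, 1, 1], (List.replicate 23 [0, 1]).flatten,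
    (List.replicate 12 [0, 2, 0, 1]).flatten, (List.replicate 5 [0, 2, 0, 2, 0, 1, 0, 1]).flatten,
    (List.replicate 4 ([0, 1] ++ (List.replicate 3 [0, 1, 0, 2]).flatten)).flatten,
    (List.replicate 3 [0, 1, 0, 1, 0, 2]).flatten ++ (List.replicate 3 [0, 1, 0, 2, 0, 2]).flatten].all
      fun w => cEq (cWord gen3 w) cOne) = true := by decide +kernel

end CfsgLib.JFourUniq
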