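import Cfsg.Agent.Lib.JFourUniq.Model
import Cfsg.Agent.Lib.JFourUniq.Checks
import Cfsg.Agent.Lib.CosetEnum.Sound

/-!
# Working with the codes in the group
-/

set_option autoImplicit false
set_option maxRecDepth 100000
set_option linter.unusedSectionVars false

open Cfsg

namespace CfsgLib.JFourUniq

open CfsgLib.Golay (idx pt inM24 validP toPerm)
open CfsgLib.CosetEnum (prodW)

theorem okC_getD {T : List Code} (hT : T.all okC = true) (i : ℕ) : okC (T.getD i cOne) = true := by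
  by_cases hi : i < T.length
  · rw [List.getD_eq_getElem _ _ hi]
    exact List.all_eq_true.1 hT _ (List.getElem_mem _)
  · rw [List.getD_eq_default _ _ (by omega)]
    decide +kernel

theorem act_idP_eq {n : ℕ} (hn : n < 2048) : act idP n = n :=
  Nat.eq_of_beq_eq_true (List.all_eq_true.1 act_idP n (List.mem_range.2 hn))

theorem okC_one : okC cOne = true := by decide +kernel

theorem vec_ok {n : ℕ} (hn : n < 2048) : okC (n, idP) = true := okC_iff.2 ⟨hn, img_ok.2.2.2.2.2⟩

theorem ap_congr {P Q : ℕ} (hP : validP P = true) (hQ : validP Q = true) (h : toPerm P = toPerm Q)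
    {i : ℕ} (hi : i < 24) : Golay.ap P i = Golay.ap Q i := by
  have := congrArg (fun τ : Equiv.Perm GolayPt => idx (τ (pt i))) h
  simpa [Golay.idx_toPerm hP, Golay.idx_toPerm hQ, Golay.idx_pt i hi] using this

theorem act_congr {P Q : ℕ} (hP : validP P = true) (hQ : validP Q = true) (h : toPerm P = toPerm Q) (n : ℕ) :
    act P n = act Q n := by
  have hb : ∀ l ∈ basisPairs, ∀ a ∈ l, a.1 < 24 ∧ a.2 < 24 := by decide +kernel
  have hs : ∀ l : List (ℕ × ℕ), (∀ a ∈ l, a.1 < 24 ∧ a.2 < 24) → pairSum P l = pairSum Q l := by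
    intro l
    induction l with
    | nil => exact fun _ => rfl
    | cons a l ih =>
      intro hl
      obtain ⟨h1, h2⟩ := hl a List.mem_cons_self
      show Nat.xor (pd (Golay.ap P a.1) (Golay.ap P a.2)) (pairSum P l) =
        Nat.xor (pd (Golay.ap Q a.1) (Golay.ap Q a.2)) (pairSum Q l)
      rw [ih fun x hx => hl x (List.mem_cons_of_mem _ hx), ap_congr hP hQ h h1, ap_congr hP hQ h h2]
  rw [act, act, actCols, actCols, List.map_congr_left fun l hl => hs l (hb l hl)]

theorem isVec_iff {g : Code} (h : isVec g = true) : g = (g.1, idP) :=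
  Prod.ext rfl (Nat.eq_of_beq_eq_true h)

theorem conjTo_iff {c g h : Code} : conjTo c g h = true ↔ cMul c g = cMul h c := cEq_iff

namespace Real

variable {G : Type*} [Group G] [Finite G] {z : G} {V : Subgroup G} (R : Real G z V)
include R

theorem mul_el {g h : Code} (hg : okC g = true) (hh : okC h = true) :
    R.el g * R.el h = R.el (cMul g h) := (R.mul g h hg hh).symm

theorem conj {c g h : Code} (hc : okC c = true) (hg : okC g = true) (hh : okC h = true)
    (e : conjTo c g h = true) : R.el c * R.el g * (R.el c)⁻¹ = R.el h := by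
  rw [R.mul_el hc hg, conjTo_iff.1 e, ← R.mul_el hh hc, mul_inv_cancel_right]

theorem comm {g h : Code} (hg : okC g = true) (hh : okC h = true) (e : cEq (cMul g h) (cMul h g) = true) :
    R.el g * R.el h = R.el h * R.el g := by
  rw [R.mul_el hg hh, R.mul_el hh hg, cEq_iff.1 e]

theorem el_ne {g h : Code} (hg : okC g = true) (hh : okC h = true) (e : cNe g h = true) :
    R.el g ≠ R.el h := by
  intro he
  obtain ⟨h1, h2⟩ := R.inj g h hg hh he
  simp only [cNe, Bool.or_eq_true, List.any_eq_true, Bool.not_eq_true', Bool.eq_false_iff, ne_eq,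
    Nat.beq_eq, List.mem_range] at e
  rcases e with e | ⟨i, hi, e⟩
  · exact e h1
  · exact e (ap_congr (valid_of_in (okC_iff.1 hg).2) (valid_of_in (okC_iff.1 hh).2) h2 hi)

theorem word {T : List Code} (hT : T.all okC = true) : ∀ w : List ℕ,
    okC (cWord T w) = true ∧ R.el (cWord T w) = prodW (fun i => R.el (T.getD i cOne)) w
  | [] => ⟨okC_one, by rw [cWord, R.one]; rfl⟩
  | i :: w => by
    obtain ⟨h1, h2⟩ := word hT w
    exact ⟨R.ok_mul _ _ (okC_getD hT i) h1, by
      rw [cWord, R.mul _ _ (okC_getD hT i) h1, h2, CosetEnum.prodW_cons]⟩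

/-- The element of a vector. -/
def vel (n : ℕ) : G := R.el (n, idP)

theorem vec_mul {n m : ℕ} (hn : n < 2048) (hm : m < 2048) :
    R.el (n, idP) * R.el (m, idP) = R.el (n ^^^ m, idP) := by
  have hx : n ^^^ m < 2048 := Nat.xor_lt_two_pow (n := 11) hn hm
  rw [R.mul_el (vec_ok hn) (vec_ok hm)]
  refine R.ext _ _ (R.ok_mul _ _ (vec_ok hn) (vec_ok hm)) (vec_ok hx) ?_ ?_
  · show n ^^^ act idP m = _
    rw [act_idP_eq hm]
  · show toPerm (Golay.mulP idP idP) = toPerm idP
    rw [Golay.toPerm_mulP (valid_of_in img_ok.2.2.2.2.2) (valid_of_in img_ok.2.2.2.2.2), toPerm_idP, mul_one]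

theorem vec_sq {n : ℕ} (hn : n < 2048) : R.el (n, idP) * R.el (n, idP) = 1 := by
  rw [R.vec_mul hn hn, Nat.xor_self]
  exact R.one

theorem vec_comm {n m : ℕ} (hn : n < 2048) (hm : m < 2048) :
    R.el (n, idP) * R.el (m, idP) = R.el (m, idP) * R.el (n, idP) := by
  rw [R.vec_mul hn hm, R.vec_mul hm hn, Nat.xor_comm]

theorem conj_vec {c : Code} (hc : okC c = true) {n : ℕ} (hn : n < 2048) :
    R.el c * R.el (n, idP) * (R.el c)⁻¹ = R.el (act c.2 n, idP) := by
  obtain ⟨h1, h2⟩ := okC_iff.1 hc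
  have hl := R.act_lt _ _ h2 hn
  have hi := valid_of_in img_ok.2.2.2.2.2
  rw [mul_inv_eq_iff_eq_mul, R.mul_el hc (vec_ok hn), R.mul_el (vec_ok hl) hc]
  refine R.ext _ _ (R.ok_mul _ _ hc (vec_ok hn)) (R.ok_mul _ _ (vec_ok hl) hc) ?_ ?_
  · show c.1 ^^^ act c.2 n = act c.2 n ^^^ act idP c.1
    rw [act_idP_eq h1, Nat.xor_comm]
  · show toPerm (Golay.mulP c.2 idP) = toPerm (Golay.mulP idP c.2)
    rw [Golay.toPerm_mulP (valid_of_in h2) hi, Golay.toPerm_mulP hi (valid_of_in h2), toPerm_idP, mul_one, one_mul]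

theorem pair_type {g : Code} (hg : okC g = true) (h : isPairC g = true) :
    ¬ IsConj z (R.el g) ∧ ∃ n < 2048, isPair n = true ∧ g = (n, idP) := by
  simp only [isPairC, Bool.and_eq_true, Bool.not_eq_true', Bool.eq_false_iff, ne_eq, Nat.beq_eq] at h
  have hn := (okC_iff.1 hg).1
  refine ⟨?_, g.1, hn, h.2, isVec_iff h.1.1⟩
  rw [isVec_iff h.1.1]
  exact (R.pair_iff _ hn h.1.2).1 h.2

theorem oct_type {g : Code} (hg : okC g = true) (h : isOct g = true) : IsConj z (R.el g) := by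
  simp only [isOct, Bool.and_eq_true, Bool.not_eq_true', Bool.eq_false_iff, ne_eq, Nat.beq_eq] at h
  rw [isVec_iff h.1.1]
  exact not_not.1 fun h' => h.2 ((R.pair_iff _ (okC_iff.1 hg).1 h.1.2).2 h')

theorem cent_pair {g : Code} (hg : okC g = true) (h : isPairC g = true) {x : G}
    (hx : x * R.el g = R.el g * x) : x ∈ Subgroup.normalizer (V : Set G) := by
  obtain ⟨-, n, hn, hp, rfl⟩ := R.pair_type hg h
  exact R.cent n hn hp x hx

/-- **The search in the group.** -/
theorem search {L : List Code} {orbs : List Orb} {E : List Code} (h : centOK L orbs E = true) {x : G}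
    (hx : x ∈ Subgroup.normalizer (V : Set G)) (h2 : x * x = 1) (hL : ∀ g ∈ L, x * R.el g = R.el g * x)
    (hE : ∀ g ∈ E, okC g = true) : x = 1 ∨ ∃ e ∈ E, x = R.el e := by
  obtain ⟨c, hc, rfl⟩ := R.surj x hx
  obtain ⟨hn, hP⟩ := okC_iff.1 hc
  have hv := valid_of_in hP
  have hLok : ∀ g ∈ L, okC g = true := by
    simp only [centOK, Bool.and_eq_true, List.all_eq_true] at h
    exact h.1.1
  rw [R.mul_el hc hc, ← R.one] at h2
  obtain ⟨a1, a2⟩ := R.inj _ _ (R.ok_mul _ _ hc hc) okC_one h2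
  have hfix : act c.2 c.1 = c.1 := by
    have a1' : c.1 ^^^ act c.2 c.1 = 0 := a1
    exact (Nat.xor_eq_zero_iff.1 a1').symm
  have hσ2 : toPerm c.2 * toPerm c.2 = 1 := by
    rw [← Golay.toPerm_mulP hv hv, ← toPerm_idP]
    exact a2
  have hcm : ∀ g ∈ L, c.1 ^^^ act c.2 g.1 = g.1 ^^^ act g.2 c.1 ∧
      toPerm c.2 * toPerm g.2 = toPerm g.2 * toPerm c.2 := by
    intro g hg
    have e := hL g hg
    rw [R.mul_el hc (hLok g hg), R.mul_el (hLok g hg) hc] at e
    obtain ⟨e1, e2⟩ := R.inj _ _ (R.ok_mul _ _ hc (hLok g hg)) (R.ok_mul _ _ (hLok g hg) hc) e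
    have hgv := valid_of_in (okC_iff.1 (hLok g hg)).2
    refine ⟨e1, ?_⟩
    rw [← Golay.toPerm_mulP hv hgv, ← Golay.toPerm_mulP hgv hv]
    exact e2
  have hsig : ∀ i < 24, ∀ j < 24,
      sigOK (fixedOf L) i j (idx (toPerm c.2 (pt i))) (idx (toPerm c.2 (pt j))) = true := by
    intro i hi j hj
    rw [sigOK, List.all_eq_true]
    intro m hm
    obtain ⟨g, hg, rfl⟩ := List.mem_map.1 hm
    rw [List.mem_filter, Nat.beq_eq] at hg
    have hml := (okC_iff.1 (hLok g hg.1)).1
    have e := (hcm g hg.1).1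
    rw [hg.2, act_idP_eq hn, Nat.xor_comm g.1, Nat.xor_right_inj] at e
    rw [Golay.idx_toPerm hv, Golay.idx_toPerm hv, Golay.idx_pt i hi, Golay.idx_pt j hj, beq_iff_eq]
    have hd : pd i j < 2048 := by
      rw [pd_eq hi hj]
      exact LargeFischer.dp_lt _ _
    show isPair (pd i j ^^^ g.1) = isPair (pd (Golay.ap c.2 i) (Golay.ap c.2 j) ^^^ g.1)
    rw [← R.act_dp _ i j hP hi hj]
    conv_rhs => rw [← e, ← R.act_xor]
    rw [R.act_pair _ _ hP (Nat.xor_lt_two_pow (n := 11) hd hml)]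
  obtain ⟨P, hPv, hPσ, hmem⟩ := centOK_spec h (mem_of_in hP) hn hσ2 (fun g hg => (hcm g hg).2) hsig
    (by
      intro P hPv hPσ
      simp only [vecOK, Bool.and_eq_true, List.all_eq_true, Nat.beq_eq]
      refine ⟨by rw [act_congr hPv hv hPσ, hfix], fun g hg => ?_⟩
      rw [act_congr hPv hv hPσ]
      exact (hcm g hg).1)
  have hPin : inM24 P = true := Golay.inM24_of_mem hPv (hPσ ▸ mem_of_in hP)
  have hel : R.el c = R.el (c.1, P) := R.ext _ _ hc (okC_iff.2 ⟨hn, hPin⟩) rfl hPσ.symm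
  rcases hmem with hm | hm
  · exact Or.inl (by rw [hel, hm, R.one])
  · exact Or.inr ⟨_, hm, hel⟩

end Real

end CfsgLib.JFourUniq
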