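import Cfsg.Agent.Lib.JFourUniq.Base
import Cfsg.Agent.Lib.JFour.SixCover
import Cfsg.Agent.Lib.JFour.Three
import Mathlib.GroupTheory.Sylow

/-!
# The involution attached to an element of order three

Every element of order three has an involution conjugate to `z` centralized by its normalizer; if the element
commutes with a pair, that involution is a vector.
-/

set_option autoImplicit false
set_option maxRecDepth 100000
set_option linter.unusedSectionVars false
set_option linter.style.haveILetI false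

open Cfsg

namespace CfsgLib.JFourUniq

/-- An involution of the first class centralized by the normalizer of an element of order three. -/
def IsCentralInv {G : Type*} [Group G] (z e u : G) : Prop :=
  IsConj z u ∧ ∀ n : G, (n * e * n⁻¹ = e ∨ n * e * n⁻¹ = e⁻¹) → n * u = u * n

theorem IsCentralInv.conj {G : Type*} [Group G] {z e u : G} (h : IsCentralInv z e u) (g : G) :
    IsCentralInv z (g * e * g⁻¹) (g * u * g⁻¹) := by
  refine ⟨h.1.trans (isConj_iff.2 ⟨g, rfl⟩), fun n hn => ?_⟩
  have hk := h.2 (g⁻¹ * n * g) (by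
    rcases hn with hn | hn
    · left
      calc g⁻¹ * n * g * e * (g⁻¹ * n * g)⁻¹ = g⁻¹ * (n * (g * e * g⁻¹) * n⁻¹) * g := by group
        _ = e := by rw [hn]; group
    · right
      calc g⁻¹ * n * g * e * (g⁻¹ * n * g)⁻¹ = g⁻¹ * (n * (g * e * g⁻¹) * n⁻¹) * g := by group
        _ = e⁻¹ := by rw [hn]; group)
  calc n * (g * u * g⁻¹) = g * (g⁻¹ * n * g * u) * g⁻¹ := by group
    _ = g * (u * (g⁻¹ * n * g)) * g⁻¹ := by rw [hk]
    _ = g * u * g⁻¹ * n := by group

theorem conj_mem_zpowers {G : Type*} [Group G] {n p : G}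
    (hn : n * p * n⁻¹ = p ∨ n * p * n⁻¹ = p⁻¹) {x : G} (hx : x ∈ Subgroup.zpowers p) :
    n * x * n⁻¹ ∈ Subgroup.zpowers p := by
  obtain ⟨k, rfl⟩ := Subgroup.mem_zpowers_iff.1 hx
  rw [← conj_zpow]
  rcases hn with hn | hn <;> rw [hn]
  · exact Subgroup.zpow_mem _ (Subgroup.mem_zpowers p) _
  · exact Subgroup.zpow_mem _ (Subgroup.inv_mem _ (Subgroup.mem_zpowers p)) _

variable {G : Type*} [Group G] [Finite G] [IsSimpleGroup G] {z : G} {V : Subgroup G}

theorem exists_central (hG : ¬ IsMulCommutative G) (hJ : IsOfJankoFourTypeAt z) {e : G} (he : orderOf e = 3) :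
    ∃ u, IsCentralInv z e u := by
  have hT : IsOfJankoFourType G := ⟨z, hJ⟩
  obtain ⟨P, hP⟩ := hJ
  obtain ⟨-, -, -, -, hnorm⟩ := JFour.six_cover hG hP
  have hcard : Nat.card ↥P = 3 := hP.2.2.2.2.2.1
  obtain ⟨p, hp, hp1⟩ : ∃ p ∈ P, p ≠ 1 := by
    by_contra h
    push_neg at h
    rw [(Subgroup.eq_bot_iff_forall P).2 h, Subgroup.card_bot] at hcard
    omega
  have hp3 : orderOf p = 3 := by
    have h : orderOf p ∣ 3 := by
      rw [← hcard]
      exact Subgroup.orderOf_dvd_natCard P hp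
    rcases (Nat.dvd_prime Nat.prime_three).1 h with h | h
    · exact absurd (orderOf_eq_one_iff.1 h) hp1
    · exact h
  have hPp : P = Subgroup.zpowers p :=
    (Subgroup.eq_of_le_of_card_ge (Subgroup.zpowers_le.2 hp) (by rw [Nat.card_zpowers, hp3, hcard])).symm
  obtain ⟨g, hg⟩ := isConj_iff.1 (JFour.one_class_three hG hT p e hp3 he)
  refine ⟨g * z * g⁻¹, ?_⟩
  rw [← hg]
  refine IsCentralInv.conj ⟨IsConj.refl z, fun n hn => ?_⟩ g
  have hn' : n⁻¹ * p * n⁻¹⁻¹ = p ∨ n⁻¹ * p * n⁻¹⁻¹ = p⁻¹ := by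
    rcases hn with hn | hn
    · left
      calc n⁻¹ * p * n⁻¹⁻¹ = n⁻¹ * (n * p * n⁻¹) * n := by rw [hn]; group
        _ = p := by group
    · right
      calc n⁻¹ * p * n⁻¹⁻¹ = n⁻¹ * (n * p * n⁻¹)⁻¹ * n := by rw [hn]; group
        _ = p⁻¹ := by group
  have hmem : n ∈ Subgroup.normalizer (P : Set G) := by
    rw [hPp, Subgroup.mem_normalizer_iff]
    refine fun x => ⟨fun hx => conj_mem_zpowers hn hx, fun hx => ?_⟩
    have := conj_mem_zpowers hn' hx
    simpa [mul_assoc] using this
  exact Subgroup.mem_centralizer_singleton_iff.1 (hnorm hmem)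

namespace Real

variable (R : Real G z V)
include R

omit [IsSimpleGroup G] in
theorem z_not_one (hz : orderOf z = 2) {x : G} (h : IsConj z x) : x * x = 1 ∧ x ≠ 1 := by
  obtain ⟨g, rfl⟩ := isConj_iff.1 h
  have h2 : z * z = 1 := by
    rw [← pow_two, ← hz]
    exact pow_orderOf_eq_one z
  refine ⟨by rw [show g * z * g⁻¹ * (g * z * g⁻¹) = g * (z * z) * g⁻¹ by group, h2]; group, fun e => ?_⟩
  have : z = 1 := by
    calc z = g⁻¹ * (g * z * g⁻¹) * g := by group
      _ = 1 := by rw [e]; group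
  rw [this, orderOf_one] at hz
  omega

omit [IsSimpleGroup G] in
/-- **The involution of an element commuting with the pair is a vector.** -/
theorem central_mem_V (hz : orderOf z = 2) {e u : G} (he : orderOf e = 3)
    (hc : e * R.el alC = R.el alC * e) (hu : IsCentralInv z e u) : ∃ n < 2048, u = R.el (n, idP) := by
  classical
  have hal : alC = (23, idP) := by
    have := three_ok
    simp only [Bool.and_eq_true, cEq_iff] at this
    exact this.1.1.1.1.1.1.1.1.1.1.2
  have halok : okC alC = true := by decide +kernel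
  have hp23 : isPair 23 = true := by decide +kernel
  have hcentN : ∀ x : G, x * R.el alC = R.el alC * x → x ∈ Subgroup.normalizer (V : Set G) := fun x hx =>
    R.cent 23 (by norm_num) hp23 x (by rwa [← hal])
  have hN : nineL.all okC = true := by decide +kernel
  have hmul := nine_ok
  simp only [List.all_eq_true, List.mem_range, Bool.and_eq_true, List.any_eq_true, cEq_iff,
    Bool.or_eq_true, Nat.beq_eq] at hmul
  have hcomm := nine_al
  simp only [List.all_eq_true, List.mem_range] at hcomm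
  set k : ℕ → G := fun i => R.el (nineL.getD i cOne)
  have hk : ∀ i < 9, k i ∈ Subgroup.centralizer ({R.el alC} : Set G) := fun i hi =>
    Subgroup.mem_centralizer_singleton_iff.2 (R.comm (okC_getD hN i) halok (hcomm i hi))
  let C := Subgroup.centralizer ({R.el alC} : Set G)
  let Q : Subgroup ↥C := {
    carrier := {x | ∃ i < 9, (x : G) = k i}
    mul_mem' := by
      rintro x y ⟨i, hi, hx⟩ ⟨j, hj, hy⟩
      obtain ⟨⟨m, hm, e⟩, -⟩ := hmul i hi j hj
      refine ⟨m, hm, ?_⟩
      show (x : G) * y = _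
      rw [hx, hy]
      show R.el _ * R.el _ = R.el _
      rw [R.mul_el (okC_getD hN i) (okC_getD hN j), e]
    one_mem' := ⟨0, by norm_num, R.one.symm⟩
    inv_mem' := by
      rintro x ⟨i, hi, hx⟩
      have hinv := nine_inv
      simp only [List.all_eq_true, List.mem_range, List.any_eq_true, cEq_iff] at hinv
      obtain ⟨j, hj, e⟩ := hinv i hi
      refine ⟨j, hj, ?_⟩
      show (x : G)⁻¹ = _
      rw [hx]
      refine inv_eq_of_mul_eq_one_right ?_
      show R.el _ * R.el _ = 1
      rw [R.mul_el (okC_getD hN i) (okC_getD hN j), e, R.one] }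
  have hkinj : ∀ i < 9, ∀ j < 9, k i = k j → i = j := by
    intro i hi j hj e
    rcases (hmul i hi j hj).2 with h | h
    · exact h
    · exact absurd e (R.el_ne (okC_getD hN i) (okC_getD hN j) h)
  have hQ : Nat.card ↥Q = 9 := by
    have f : Fin 9 ≃ ↥Q := Equiv.ofBijective (fun i => ⟨⟨k i, hk i i.2⟩, i, i.2, rfl⟩)
      ⟨fun a b h => Fin.ext (hkinj a a.2 b b.2 (congrArg (fun x : ↥Q => ((x : ↥C) : G)) h)),
        fun ⟨x, i, hi, hx⟩ => ⟨⟨i, hi⟩, Subtype.ext (Subtype.ext hx.symm)⟩⟩
    rw [← Nat.card_congr f, Nat.card_fin]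
  haveI : Fact (Nat.Prime 3) := ⟨Nat.prime_three⟩
  have hC : Nat.card ↥C = 2 ^ 11 * 887040 := by
    show Nat.card ↥(Subgroup.centralizer ({R.el alC} : Set G)) = _
    rw [hal]
    exact R.card_cent 23 (by norm_num) hp23
  have hfac : (2 ^ 11 * 887040 : ℕ).factorization 3 = 2 := by
    rw [show (2 ^ 11 * 887040 : ℕ) = 3 ^ 2 * 201850880 by norm_num,
      Nat.factorization_mul (by norm_num) (by norm_num), Finsupp.add_apply,
      Nat.Prime.factorization_pow Nat.prime_three, Finsupp.single_eq_same,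
      Nat.factorization_eq_zero_of_not_dvd (by norm_num)]
  let S : Sylow 3 ↥C := Sylow.ofCard Q (by rw [hQ, hC, hfac]; norm_num)
  have hemem : e ∈ C := Subgroup.mem_centralizer_singleton_iff.2 hc
  have hep : IsPGroup 3 ↥(Subgroup.zpowers (⟨e, hemem⟩ : ↥C)) := by
    refine IsPGroup.of_card (n := 1) ?_
    rw [Nat.card_zpowers, pow_one, ← Subgroup.orderOf_coe]
    exact he
  obtain ⟨P', hP'⟩ := hep.exists_le_sylow
  obtain ⟨c, hcS⟩ := MulAction.exists_smul_eq ↥C P' S
  have hin : c * ⟨e, hemem⟩ * c⁻¹ ∈ Q := by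
    have h1 : c * ⟨e, hemem⟩ * c⁻¹ ∈ ((c • P' : Sylow 3 ↥C) : Subgroup ↥C) := by
      rw [Sylow.coe_subgroup_smul]
      exact Subgroup.smul_mem_pointwise_smul _ _ _ (hP' (Subgroup.mem_zpowers _))
    rw [hcS] at h1
    exact h1
  obtain ⟨i, hi, hei⟩ := hin
  have hei' : (c : G) * e * (c : G)⁻¹ = k i := hei
  have hi0 : i ≠ 0 := by
    intro h
    rw [h] at hei'
    have : e = 1 := by
      calc e = (c : G)⁻¹ * ((c : G) * e * (c : G)⁻¹) * c := by group
        _ = 1 := by rw [hei', show k 0 = 1 from R.one]; group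
    rw [this, orderOf_one] at he
    omega
  obtain ⟨j, rfl⟩ : ∃ j, i = j + 1 := ⟨i - 1, by omega⟩
  have hu' := hu.conj (c : G)
  rw [hei'] at hu'
  set u' := (c : G) * u * (c : G)⁻¹
  have hu2 := R.z_not_one hz hu'.1
  have hus := nine_search
  simp only [List.all_eq_true, List.mem_range, Bool.and_eq_true] at hus
  have hj := hus j (by omega)
  simp only [nineOK, Bool.and_eq_true, List.all_eq_true] at hj
  obtain ⟨hsr, hEok⟩ := hj
  have hfix := nine_fix
  simp only [List.all_eq_true, List.mem_range, Bool.and_eq_true, Nat.blt_eq] at hfix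
  have hgen : ∀ g ∈ nineG j, R.el g * u' = u' * R.el g := by
    intro g hg
    rcases List.mem_append.1 hg with hg | hg
    · obtain ⟨v, hv, rfl⟩ := List.mem_map.1 hg
      obtain ⟨hv1, hv2⟩ := hfix j (by omega) v hv
      refine hu'.2 _ (Or.inl ?_)
      rw [R.comm (vec_ok hv1) (okC_getD hN (j + 1)) hv2, mul_inv_cancel_right]
    · have hAB := nine_comm
      simp only [List.all_eq_true, List.mem_range, Bool.and_eq_true] at hAB
      have hA : okC nineA = true ∧ okC nineB = true := by decide +kernel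
      simp only [List.mem_cons, List.not_mem_nil, or_false] at hg
      rcases hg with rfl | rfl
      · refine hu'.2 _ (Or.inl ?_)
        rw [R.comm hA.1 (okC_getD hN (j + 1)) (hAB (j + 1) hi).1, mul_inv_cancel_right]
      · refine hu'.2 _ (Or.inl ?_)
        rw [R.comm hA.2 (okC_getD hN (j + 1)) (hAB (j + 1) hi).2, mul_inv_cancel_right]
  have hu'N : u' ∈ Subgroup.normalizer (V : Set G) := hcentN u' (hu'.2 _ (Or.inl (by
    rw [← Subgroup.mem_centralizer_singleton_iff.1 (hk (j + 1) hi), mul_inv_cancel_right]))).symm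
  rcases R.search hsr hu'N hu2.1 (fun g hg => (hgen g hg).symm) hEok with h | ⟨q, hq, hqe⟩
  · exact absurd h hu2.2
  · obtain ⟨n, hn, rfl⟩ := List.mem_map.1 hq
    have hn' : n < 2048 := (okC_iff.1 (hEok _ hq)).1
    obtain ⟨a, ha, hac⟩ := R.surj _ (inv_mem (hcentN _ (Subgroup.mem_centralizer_singleton_iff.1 c.2)))
    refine ⟨act a.2 n, R.act_lt _ _ (okC_iff.1 ha).2 hn', ?_⟩
    rw [← R.conj_vec ha hn', hac, ← hqe]
    show u = (c : G)⁻¹ * ((c : G) * u * (c : G)⁻¹) * (c : G)⁻¹⁻¹
    group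

end Real

end CfsgLib.JFourUniq
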