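import Cfsg.Agent.Lib.LargeFischer.ToddPerm
import Cfsg.Agent.Lib.Golay.Commute
import Cfsg.Agent.Lib.JFour.Lin

/-!
# Codes for the elements of a split extension of the pair group by the Mathieu group

A code is a vector below 2048 and a packed permutation of the 24 points.  A checked search lists the
codes of involutions commuting with a given list of codes.
-/

set_option autoImplicit false

namespace CfsgLib.JFourUniq

open Cfsg
open CfsgLib.Golay (idx pt inM24 validP toPerm packList)
open CfsgLib.LargeFischer (pairD pairMask)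

/-- A code: a vector and a packed permutation. -/
abbrev Code : Type := ℕ × ℕ

/-- Each unit vector as a sum of at most two pairs. -/
def basisPairs : List (List (ℕ × ℕ)) :=
  [[(0, 1), (2, 3)], [(0, 2), (18, 20)], [(4, 5), (9, 16)], [(2, 3), (8, 22)], [(2, 4), (10, 21)],
    [(2, 3), (5, 10)], [(0, 1), (13, 20)], [(18, 20)], [(17, 23)], [(18, 19)], [(17, 19)]]

/-- The vector of a pair of positions. -/
def pd (i j : ℕ) : ℕ := Nat.xor (pairD.getD i 0) (pairD.getD j 0)

/-- The sum of a list of pairs moved by a packed permutation. -/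
def pairSum (P : ℕ) (l : List (ℕ × ℕ)) : ℕ :=
  l.foldr (fun a r => Nat.xor (pd (Golay.ap P a.1) (Golay.ap P a.2)) r) 0

/-- The columns of the action of a packed permutation. -/
def actCols (P : ℕ) : List ℕ := basisPairs.map (pairSum P)

/-- The action on vectors. -/
def act (P n : ℕ) : ℕ := JFour.ap (actCols P) n

/-- The identity, packed. -/
def idP : ℕ := packList (List.range 24)

/-- The trivial code. -/
def cOne : Code := (0, idP)

/-- The product of codes. -/
def cMul (g h : Code) : Code := (Nat.xor g.1 (act g.2 h.1), Golay.mulP g.2 h.2)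

/-- A well formed code. -/
def okC (g : Code) : Bool := Nat.blt g.1 2048 && inM24 g.2

/-- The product of a word in a table. -/
def cWord (T : List Code) : List ℕ → Code
  | [] => cOne
  | k :: w => cMul (T.getD k cOne) (cWord T w)

/-- The membership of a vector in the pairs. -/
def isPair (n : ℕ) : Bool := pairMask.testBit n

/-- Equality of codes. -/
def cEq (g h : Code) : Bool := Nat.beq g.1 h.1 && Nat.beq g.2 h.2

/-- The image of a position under a word of packed permutations. -/
def hApp (ps : List ℕ) : List ℕ → ℕ → ℕ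
  | [], q => q
  | k :: w, q => Golay.ap (ps.getD k idP) (hApp ps w q)

/-- A pair of images is admissible for the fixed vectors `mv`. -/
def sigOK (mv : List ℕ) (i j v u : ℕ) : Bool :=
  mv.all fun m => (isPair (Nat.xor (pd i j) m)) == (isPair (Nat.xor (pd v u) m))

/-- Add images to a partial permutation. -/
def extend (mv : List ℕ) : List (ℕ × ℕ) → List (ℕ × ℕ) → Option (List (ℕ × ℕ))
  | acc, [] => some acc
  | acc, e :: r =>
    bif acc.all (fun a => !(Nat.beq e.2 a.2) && sigOK mv e.1 a.1 e.2 a.2) then extend mv (e :: acc) r else none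

/-- An orbit: its representative and its points with words. -/
abbrev Orb : Type := ℕ × List (ℕ × List ℕ)

/-- The admissible total assignments. -/
def leaves (ps mv : List ℕ) : List Orb → List (ℕ × ℕ) → List (List (ℕ × ℕ))
  | [], acc => [acc]
  | o :: os, acc => (List.range 24).flatMap fun q =>
    match extend mv acc (o.2.map fun e => (e.1, hApp ps e.2 q)) with
    | none => []
    | some a => leaves ps mv os a

/-- The points of a list of orbits. -/
def orbPts (orbs : List Orb) : List ℕ := orbs.flatMap fun o => o.2.map Prod.fst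

/-- The orbit data is correct and covers the positions once. -/
def orbOK (ps : List ℕ) (orbs : List Orb) : Bool :=
  (orbs.all fun o => Nat.blt o.1 24 && o.2.all fun e =>
      Nat.blt e.1 24 && e.2.all (fun k => Nat.blt k ps.length) && Nat.beq (hApp ps e.2 o.1) e.1) &&
    decide (orbPts orbs).Nodup && (List.range 24).all fun i => (orbPts orbs).contains i

/-- The image of a position in an assignment. -/
def look (L : List (ℕ × ℕ)) (i : ℕ) : ℕ := ((L.find? fun e => Nat.beq e.1 i).map Prod.snd).getD 0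

/-- The packed permutation of an assignment. -/
def packLeaf (L : List (ℕ × ℕ)) : ℕ := packList ((List.range 24).map (look L))

/-- An involutory permutation commuting with a list. -/
def permOK (ps : List ℕ) (P : ℕ) : Bool :=
  inM24 P && (List.range 24).all fun i => Nat.beq (Golay.ap P (Golay.ap P i)) i &&
    ps.all fun Q => Nat.beq (Golay.ap P (Golay.ap Q i)) (Golay.ap Q (Golay.ap P i))

/-- The vector condition for commuting. -/
def vecOK (G : List Code) (P n : ℕ) : Bool :=
  Nat.beq (act P n) n && G.all fun h => Nat.beq (Nat.xor n (act P h.1)) (Nat.xor h.1 (act h.2 n))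

/-- The fixed vectors forced by a list of codes. -/
def fixedOf (G : List Code) : List ℕ := (G.filter fun h => Nat.beq h.2 idP).map Prod.fst

/-- All involutions commuting with `G` are among `E`. -/
def centOK (G : List Code) (orbs : List Orb) (E : List Code) : Bool :=
  G.all okC && orbOK (G.map Prod.snd) orbs &&
  (leaves (G.map Prod.snd) (fixedOf G) orbs []).all fun L =>
    !(permOK (G.map Prod.snd) (packLeaf L)) || (List.range 2048).all fun n =>
      !(vecOK G (packLeaf L) n) || cEq (n, packLeaf L) cOne || E.any (cEq (n, packLeaf L))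

theorem cEq_iff {g h : Code} : cEq g h = true ↔ g = h := by
  obtain ⟨a, b⟩ := g
  obtain ⟨c, d⟩ := h
  simp [cEq, Prod.mk.injEq]

theorem extend_spec {mv : List ℕ} {f : ℕ → ℕ} (hinj : ∀ i < 24, ∀ j < 24, f i = f j → i = j)
    (hsig : ∀ i < 24, ∀ j < 24, sigOK mv i j (f i) (f j) = true) :
    ∀ (r acc : List (ℕ × ℕ)), (∀ e ∈ acc, e.1 < 24 ∧ e.2 = f e.1) → (∀ e ∈ r, e.1 < 24 ∧ e.2 = f e.1) →
      (acc.map Prod.fst ++ r.map Prod.fst).Nodup →
      ∃ a, extend mv acc r = some a ∧ (∀ e ∈ a, e.1 < 24 ∧ e.2 = f e.1) ∧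
        (a.map Prod.fst).Perm (acc.map Prod.fst ++ r.map Prod.fst)
  | [], acc, ha, _, _ => ⟨acc, rfl, ha, by simp⟩
  | e :: r, acc, ha, hr, hnd => by
    have he := hr e List.mem_cons_self
    have hp : (List.map Prod.fst (e :: acc) ++ r.map Prod.fst).Perm
        (acc.map Prod.fst ++ (e :: r).map Prod.fst) := by
      simp only [List.map_cons, List.cons_append]
      exact List.perm_middle.symm
    have hall : acc.all (fun a => !(Nat.beq e.2 a.2) && sigOK mv e.1 a.1 e.2 a.2) = true := by
      rw [List.all_eq_true]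
      intro a hm
      obtain ⟨h1, h2⟩ := ha a hm
      simp only [Bool.and_eq_true, Bool.not_eq_true', Bool.eq_false_iff, ne_eq, Nat.beq_eq]
      refine ⟨fun h => ?_, by rw [he.2, h2]; exact hsig _ he.1 _ h1⟩
      have hea := hinj _ he.1 _ h1 (by rw [← he.2, ← h2, h])
      have hnd' := hp.symm.nodup hnd
      simp only [List.map_cons, List.cons_append, List.nodup_cons] at hnd'
      exact hnd'.1 (List.mem_append_left _ (hea ▸ List.mem_map_of_mem hm))
    obtain ⟨a, h1, h2, h3⟩ := extend_spec hinj hsig r (e :: acc)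
      (fun x hx => (List.mem_cons.1 hx).elim (fun h => h ▸ he) (ha x))
      (fun x hx => hr x (List.mem_cons_of_mem _ hx)) (hp.symm.nodup hnd)
    exact ⟨a, by rw [extend, hall, cond_true]; exact h1, h2, h3.trans hp⟩

theorem hApp_spec {ps : List ℕ} {f : ℕ → ℕ}
    (hc : ∀ Q ∈ ps, ∀ i < 24, Golay.ap Q i < 24 ∧ f (Golay.ap Q i) = Golay.ap Q (f i)) :
    ∀ (w : List ℕ), (∀ k ∈ w, k < ps.length) → ∀ q < 24, hApp ps w q < 24 ∧ hApp ps w (f q) = f (hApp ps w q)
  | [], _, q, hq => ⟨hq, rfl⟩
  | k :: w, hk, q, hq => by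
    obtain ⟨h1, h2⟩ := hApp_spec hc w (fun x hx => hk x (List.mem_cons_of_mem _ hx)) q hq
    have hkm : ps.getD k idP ∈ ps := by
      rw [List.getD_eq_getElem _ _ (hk k List.mem_cons_self)]
      exact List.getElem_mem _
    obtain ⟨h3, h4⟩ := hc _ hkm _ h1
    exact ⟨h3, by rw [hApp, hApp, h2, h4]⟩

theorem leaves_spec {ps mv : List ℕ} {f : ℕ → ℕ} (hlt : ∀ i < 24, f i < 24)
    (hinj : ∀ i < 24, ∀ j < 24, f i = f j → i = j) (hsig : ∀ i < 24, ∀ j < 24, sigOK mv i j (f i) (f j) = true)
    (hc : ∀ Q ∈ ps, ∀ i < 24, Golay.ap Q i < 24 ∧ f (Golay.ap Q i) = Golay.ap Q (f i)) :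
    ∀ (orbs : List Orb) (acc : List (ℕ × ℕ)),
      (∀ o ∈ orbs, o.1 < 24 ∧ ∀ e ∈ o.2, e.1 < 24 ∧ (∀ k ∈ e.2, k < ps.length) ∧ hApp ps e.2 o.1 = e.1) →
      (∀ e ∈ acc, e.1 < 24 ∧ e.2 = f e.1) → (acc.map Prod.fst ++ orbPts orbs).Nodup →
      ∃ L ∈ leaves ps mv orbs acc, (∀ e ∈ L, e.1 < 24 ∧ e.2 = f e.1) ∧
        (L.map Prod.fst).Perm (acc.map Prod.fst ++ orbPts orbs)
  | [], acc, _, ha, _ => ⟨acc, by simp [leaves], ha, by simp [orbPts]⟩
  | o :: os, acc, ho, ha, hnd => by
    obtain ⟨ho1, ho2⟩ := ho o List.mem_cons_self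
    set r := o.2.map fun e => (e.1, hApp ps e.2 (f o.1)) with hr
    have hrm : r.map Prod.fst = o.2.map Prod.fst := by simp [hr]
    have hrf : ∀ e ∈ r, e.1 < 24 ∧ e.2 = f e.1 := by
      intro e he
      obtain ⟨x, hx, rfl⟩ := List.mem_map.1 he
      obtain ⟨h1, h2, h3⟩ := ho2 x hx
      exact ⟨h1, by rw [(hApp_spec hc x.2 h2 o.1 ho1).2, h3]⟩
    have hpts : orbPts (o :: os) = o.2.map Prod.fst ++ orbPts os := by simp [orbPts]
    rw [hpts, ← List.append_assoc] at hnd
    obtain ⟨a, h1, h2, h3⟩ := extend_spec hinj hsig r acc ha hrf (hrm ▸ (List.nodup_append.1 hnd).1)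
    rw [hrm] at h3
    obtain ⟨L, h4, h5, h6⟩ := leaves_spec hlt hinj hsig hc os a (fun x hx => ho x (List.mem_cons_of_mem _ hx)) h2
      ((h3.append_right _).symm.nodup hnd)
    refine ⟨L, ?_, h5, ?_⟩
    · rw [leaves, List.mem_flatMap]
      refine ⟨f o.1, List.mem_range.2 (hlt _ ho1), ?_⟩
      rw [← hr, h1]
      exact h4
    · rw [hpts, ← List.append_assoc]
      exact h6.trans (h3.append_right _)

theorem look_eq {L : List (ℕ × ℕ)} {f : ℕ → ℕ} (h : ∀ e ∈ L, e.2 = f e.1) {i : ℕ} (hi : i ∈ L.map Prod.fst) :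
    look L i = f i := by
  obtain ⟨e, he, rfl⟩ := List.mem_map.1 hi
  obtain ⟨a, ha⟩ := Option.isSome_iff_exists.1 (List.find?_isSome.2 ⟨e, he, Nat.beq_refl e.1⟩ :
    (L.find? fun x => Nat.beq x.1 e.1).isSome = true)
  have hb := List.find?_some ha
  rw [Nat.beq_eq] at hb
  rw [look, ha]
  show a.2 = f e.1
  rw [h a (List.mem_of_find?_eq_some ha), hb]

/-- **Completeness of the search.** -/
theorem centOK_spec {G : List Code} {orbs : List Orb} {E : List Code} (h : centOK G orbs E = true)
    {σ : Equiv.Perm GolayPt} (hσ : σ ∈ M24) {n : ℕ} (hn : n < 2048) (hσ2 : σ * σ = 1)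
    (hcomm : ∀ g ∈ G, σ * toPerm g.2 = toPerm g.2 * σ)
    (hsig : ∀ i < 24, ∀ j < 24, sigOK (fixedOf G) i j (idx (σ (pt i))) (idx (σ (pt j))) = true)
    (hvec : ∀ P, validP P = true → toPerm P = σ → vecOK G P n = true) :
    ∃ P, validP P = true ∧ toPerm P = σ ∧ ((n, P) = cOne ∨ (n, P) ∈ E) := by
  simp only [centOK, Bool.and_eq_true, List.all_eq_true] at h
  obtain ⟨⟨hG, horb⟩, hall⟩ := h
  simp only [orbOK, Bool.and_eq_true, List.all_eq_true, decide_eq_true_eq, Nat.blt_eq, Nat.beq_eq,
    List.contains_iff_mem, List.mem_range] at horb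
  obtain ⟨⟨hos, hnd⟩, hcov⟩ := horb
  set f : ℕ → ℕ := fun i => idx (σ (pt i)) with hf
  have hlt : ∀ i < 24, f i < 24 := fun i _ => Golay.idx_lt _
  have hinj : ∀ i < 24, ∀ j < 24, f i = f j → i = j := fun i hi j hj e => by
    have := σ.injective (Golay.idx_injective e)
    rw [← Golay.idx_pt i hi, this, Golay.idx_pt j hj]
  have hv : ∀ g ∈ G, validP g.2 = true := fun g hg => by
    have := hG g hg
    simp only [okC, inM24, Bool.and_eq_true] at this
    exact this.2.1
  have hc : ∀ Q ∈ G.map Prod.snd, ∀ i < 24, Golay.ap Q i < 24 ∧ f (Golay.ap Q i) = Golay.ap Q (f i) := by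
    intro Q hQ i hi
    obtain ⟨g, hg, rfl⟩ := List.mem_map.1 hQ
    refine ⟨Golay.validP_lt (hv g hg) hi, ?_⟩
    have e := congrArg (fun τ : Equiv.Perm GolayPt => τ (pt i)) (hcomm g hg)
    simp only [Equiv.Perm.mul_apply, Golay.toPerm_apply (hv g hg), Golay.idx_pt i hi] at e
    show idx (σ (pt (Golay.ap g.2 i))) = _
    rw [e, Golay.idx_pt _ (Golay.validP_lt (hv g hg) (Golay.idx_lt _))]
  obtain ⟨L, hL, hLf, hperm⟩ := leaves_spec hlt hinj hsig hc orbs [] (fun o ho =>
    ⟨(hos o ho).1, fun e he => ⟨((hos o ho).2 e he).1.1, ((hos o ho).2 e he).1.2, ((hos o ho).2 e he).2⟩⟩)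
    (by simp) (by simpa using hnd)
  have hlook : ∀ i < 24, look L i = f i := fun i hi => look_eq (fun e he => (hLf e he).2)
    (hperm.mem_iff.2 (by simpa using hcov i hi))
  have hap : ∀ p, idx (σ p) = Golay.ap (packLeaf L) (idx p) := by
    intro p
    have hp := Golay.idx_lt p
    rw [packLeaf, Golay.ap_packList _ _ (fun a ha => ?_) (by simpa using hp)]
    · rw [List.getD_eq_getElem _ _ (by simpa using hp), List.getElem_map, List.getElem_range, hlook _ hp, hf]
      show idx (σ p) = idx (σ (pt (idx p)))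
      rw [Golay.pt_idx]
    · obtain ⟨i, hi, rfl⟩ := List.mem_map.1 ha
      rw [List.mem_range] at hi
      rw [hlook i hi]
      have := hlt i hi
      omega
  have hvalid := Golay.validP_of_eq σ hap
  have heq := (Golay.eq_toPerm hvalid σ hap).symm
  refine ⟨packLeaf L, hvalid, heq, ?_⟩
  have hpok : permOK (G.map Prod.snd) (packLeaf L) = true := by
    simp only [permOK, Bool.and_eq_true, List.all_eq_true, List.mem_range, Nat.beq_eq]
    refine ⟨Golay.inM24_of_mem hvalid (heq ▸ hσ), fun i hi => ⟨?_, fun Q hQ => ?_⟩⟩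
    · have e := congrArg (fun τ : Equiv.Perm GolayPt => idx (τ (pt i))) hσ2
      simp only [Equiv.Perm.mul_apply, Equiv.Perm.one_apply, hap, Golay.idx_pt i hi] at e
      exact e
    · have e1 := (hc Q hQ i hi).2
      have hfa : ∀ j < 24, f j = Golay.ap (packLeaf L) j := fun j hj => by
        show idx (σ (pt j)) = _
        rw [hap, Golay.idx_pt j hj]
      rwa [hfa _ (hc Q hQ i hi).1, hfa i hi] at e1
  have h1 := hall L hL
  rw [hpok, Bool.not_true, Bool.false_or, List.all_eq_true] at h1
  have h2 := h1 n (List.mem_range.2 hn)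
  rw [hvec _ hvalid heq, Bool.not_true, Bool.false_or, Bool.or_eq_true] at h2
  rcases h2 with h2 | h2
  · exact Or.inl (cEq_iff.1 h2)
  · obtain ⟨e, he, hee⟩ := List.any_eq_true.1 h2
    exact Or.inr (cEq_iff.1 hee ▸ he)

end CfsgLib.JFourUniq
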