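import Cfsg.Agent.Lib.JFourUniq.Code

/-!
# Certificates for the relations of the fourth Janko group (generated)
-/

set_option autoImplicit false
set_option linter.style.longLine false
set_option maxRecDepth 100000

namespace CfsgLib.JFourUniq

/-- Evidence on a candidate for the commutator with a pair. -/
inductive Rej
  /-- the right one -/
  | ok
  /-- a vector that is not a pair -/
  | vec
  /-- conjugate to an octad involution -/
  | octad (c : Code)
  /-- two images that do not commute -/
  | comm (w : List ℕ) (T : Code) (b : ℕ)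
  /-- a product of two images of the wrong class -/
  | type (w : List ℕ) (T : Code) (b : ℕ) (c : Code)

/-- Evidence on a candidate for a moved involution. -/
inductive Wit
  /-- admissible -/
  | ok
  /-- a pair -/
  | pair
  /-- conjugate to the first generator -/
  | semi (c : Code)
  /-- conjugate to the image of a pair -/
  | moved (c : Code) (w : List ℕ)
  /-- the image of a known element -/
  | img (w w' : List ℕ)

/-- Generators of the meet of the normalizer with its image -/
def genC : List Code :=
  [(400, 984818244535754528103549039458486304), (753, 984818244535754528103549039458486304), (1142, 984818244535754528103549039458486304), (0, 1996800121415874873583128628907108), (0, 554501708798941684631619943444727252), (0, 568156493039236335498144825203015975), (0, 968875517881915280625323571514804371), (0, 777112432189642213387772994482408576), (0, 383726299924771023310968845335106604), (0, 112500944712571511345105782024264896), (0, 980356232912866365244665936463628778), (0, 965266080816606811053007015647480076), (23, 984818244535754528103549039458486304),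 (26, 984818244535754528103549039458486304), (38, 984818244535754528103549039458486304), (47, 984818244535754528103549039458486304), (105, 984818244535754528103549039458486304), (128, 984818244535754528103549039458486304)]

/-- Their images under the third generator -/
def imgC : List Code :=
  [(400, 984818244535754528103549039458486304), (753, 984818244535754528103549039458486304), (1142, 984818244535754528103549039458486304), (0, 1996800121415874873583128628907108), (0, 554501708798941684631619943444727252), (0, 568156493039236335498144825203015975), (0, 968875517881915280625323571514804371), (0, 777112432189642213387772994482408576), (0, 383726299924771023310968845335106604), (0, 112500944712571511345105782024264896), (0, 980356232912866365244665936463628778), (0, 965266080816606811053007015647480076), (23, 968875517881915280625323571514804371), (26, 777112432189642213387772994482408576), (38, 383726299924771023310968845335106604), (47, 112500944712571511345105782024264896), (105, 980356232912866365244665936463628778), (128, 965266080816606811053007015647480076)]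

/-- An element of order three -/
def e3C : Code :=
  (0, 922177953769048827675751633668112449)

/-- Its inverse -/
def e3iC : Code :=
  (0, 279553857179538992452652824962139138)

/-- A pair in the meet -/
def alC : Code :=
  (23, 984818244535754528103549039458486304)

/-- The translate of the element of order three -/
def e3pC : Code :=
  (764, 922177953769048827675751633668112449)

/-- An involution commuting with both -/
def dC : Code :=
  (0, 83575336916761083395551944999787734)

/-- A conjugator to the first generator -/
def cdC : Code :=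
  (0, 729667897070888515241747493434183910)

/-- The commutator with the pair -/
def x0C : Code :=
  (0, 968875517881915280625323571514804371)

/-- The image of the pair -/
def tgC : Code :=
  (23, 968875517881915280625323571514804371)

/-- Elements normalizing the element of order three -/
def notNG : List Code :=
  [(400, 984818244535754528103549039458486304), (753, 984818244535754528103549039458486304), (1142, 984818244535754528103549039458486304), (0, 1996800121415874873583128628907108), (0, 554501708798941684631619943444727252), (0, 568156493039236335498144825203015975)]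

/-- Orbits -/
def notNO : List Orb :=
  [(0, [(0, []), (4, [3]), (20, [4]), (7, [5]), (23, [3, 3]), (22, [4, 3]), (16, [4, 4]), (13, [3, 5]), (18, [4, 5]), (1, [3, 4, 3]), (11, [4, 4, 3]), (21, [5, 4, 3]), (10, [4, 4, 4]), (2, [5, 4, 4]), (12, [4, 3, 5]), (8, [5, 4, 5]), (3, [3, 3, 4, 3]), (14, [4, 3, 4, 3]), (9, [5, 3, 4, 3]), (6, [5, 4, 4, 3]), (17, [3, 5, 4, 3]), (5, [4, 5, 4, 3]), (15, [3, 4, 4, 4]), (19, [3, 5, 4, 4])])]

/-- Elements fixing the pair -/
def pairG : List Code :=
  [(400, 984818244535754528103549039458486304), (753, 984818244535754528103549039458486304), (1142, 984818244535754528103549039458486304), (23, 984818244535754528103549039458486304), (0, 963723944209615660477976634562021377), (0, 849847670871825776943761462759884832), (0, 767817304785996753775245422458113636)]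

/-- Their words -/
def pairGw : List (List ℕ) :=
  [[4, 4, 5, 4, 4, 5, 4, 4, 5], [3, 4, 4, 4, 3, 4, 4], [3, 5, 4, 4, 4, 4, 4, 4]]

/-- Orbits -/
def pairO : List Orb :=
  [(0, [(0, []), (1, [4]), (4, [6]), (19, [6, 4])]), (2, [(2, []), (3, [6])]), (5, [(5, []), (18, [5]), (20, [6]), (9, [5, 5]), (23, [6, 5]), (11, [5, 6])]), (6, [(6, []), (22, [4]), (17, [5]), (10, [6]), (14, [5, 4]), (15, [6, 4]), (13, [5, 5]), (12, [6, 5]), (7, [5, 6]), (21, [5, 5, 4]), (8, [6, 5, 4]), (16, [5, 6, 4])])]

/-- The candidates for the commutator with the evidence -/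
def pairE : List (Code × Rej) :=
  [((23, 984818244535754528103549039458486304), .vec), ((1121, 984818244535754528103549039458486304), .vec), ((1142, 984818244535754528103549039458486304), .vec), ((0, 963723944209615660477976634562021377), .comm [3, 4, 5] (790, 944164046057621858648305461992456226) 790), ((23, 963723944209615660477976634562021377), .octad (0, 313065659943152901851144089945977586)), ((1121, 963723944209615660477976634562021377), .comm [3, 4, 5] (1671, 944164046057621858648305461992456226) 790), ((1142, 963723944209615660477976634562021377), .octad (503, 313065659943152901851144089945977586)), ((0, 975203668941153671988875640252238436), .comm [3, 4, 5] (790, 505705940555582942247064125808516137) 790), ((23, 975203668941153671988875640252238436), .octad (0, 924968493106907829569074027709442242)), ((1121, 975203668941153671988875640252238436), .comm [3, 4, 5] (1671, 505705940555582942247064125808516137) 790), ((1142, 975203668941153671988875640252238436), .octad (200, 924968493106907829569074027709442242)), ((0, 968875517881915280625323571514804371),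 .ok), ((23, 968875517881915280625323571514804371), .octad (0, 919996481162395616464767911894268109)), ((1121, 968875517881915280625323571514804371), .type [3, 4, 5] (1671, 223678784952937417967831716305970215) 790 (1969, 480546868553671762559865801330196624)), ((1142, 968875517881915280625323571514804371), .octad (790, 919996481162395616464767911894268109))]

/-- Words moving the pair to the basis -/
def baW : List (List ℕ) :=
  [[3, 4, 4, 4, 3, 4, 4], [3, 5, 4, 5, 4, 3, 4], [4, 3, 4, 4, 5, 3, 4, 3], [4, 3, 3, 4, 3, 4, 3], [3, 3, 4, 5, 4, 4, 5], [4, 4, 5, 4, 4, 5, 4, 3]]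

/-- The first generator -/
def xWord : List ℕ :=
  [3, 5, 8, 3]

/-- The element centralized by the third generator -/
def wWord : List ℕ :=
  [4, 5, 4, 4, 3, 4, 6, 9]

/-- An involution of the second class -/
def r1d : List ℕ :=
  [0, 1, 3, 5, 4, 5, 4, 3, 6, 4, 8, 4]

/-- A conjugator -/
def r1c : Code :=
  (2041, 100423879999204844819249629854221655)

/-- A pair -/
def r1b : List ℕ :=
  [12]

/-- The moved second generator -/
def r1y : List ℕ :=
  [1, 2, 15, 4, 3, 4, 4, 9, 10, 4]

/-- The conjugate of the second generator -/
def y1C : Code :=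
  (0, 15160597996166424430909260750313748)

/-- Known commuting elements -/
def r1G : List (List ℕ × List ℕ) :=
  [([0, 4, 4, 5, 4, 4, 4, 3, 6, 3], [0, 2, 12, 13, 14, 17, 4, 4, 3, 4, 4, 4, 8, 4, 8, 4]), ([0, 3, 3, 4, 3, 4, 4, 5, 4, 4, 6, 9], [0, 1, 13, 15, 16, 17, 3, 4, 4, 5, 3, 4, 4, 3, 7, 11, 4]), ([2, 5, 4, 5, 4, 3, 4, 8, 4, 3, 10], [13, 16, 17, 3, 4, 5, 4, 3, 4, 6, 4, 4, 11])]

/-- Orbits -/
def r1O : List Orb :=
  [(0, [(0, []), (7, [1]), (21, [2]), (10, [3]), (19, [1, 1]), (22, [3, 1]), (12, [1, 2]), (14, [2, 2])]), (1, [(1, []), (17, [1]), (9, [2]), (20, [3]), (16, [1, 1]), (2, [3, 1]), (4, [2, 3]), (3, [1, 3, 1])]), (5, [(5, []), (11, [1]), (13, [2]), (6, [3]), (18, [1, 1]), (8, [3, 1]), (15, [1, 3, 1]), (23, [3, 3, 1])])]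

/-- The candidates -/
def r1E : List (Code × Wit) :=
  [((753, 984818244535754528103549039458486304), .ok), ((137, 540308665983773191457927415445162038), .moved (1972, 650339559595016112002076700070009932) [12]), ((632, 540308665983773191457927415445162038), .ok)]

/-- The first translation word -/
def uC : Code :=
  (0, 606532120555754731498337523229931019)

/-- The second translation word -/
def vC : Code :=
  (0, 841602387722581001619560122582352358)

/-- Its inverse -/
def viC : Code :=
  (0, 717053313862602671755236162464794980)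

/-- The element of order four -/
def aC : Code :=
  (0, 382327861106771490494444129887163393)

/-- The first conjugator -/
def r2c : Code :=
  (1, 167998142101926615123717808742343366)

/-- An involution of the second class -/
def r2d : List ℕ :=
  [9, 10, 11]

/-- Its translate -/
def r2dv : List ℕ :=
  [4, 3, 11, 5, 10]

/-- Its image -/
def r2o : List ℕ :=
  [12, 15, 17, 9, 10, 11]

/-- The moved element of order four -/
def r2a : List ℕ :=
  [0, 16, 17, 4, 3, 4, 4, 5, 3, 4, 10]

/-- The conjugator of the second involution -/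
def r2k : Code :=
  (1, 584260896218387907860390148025330199)

/-- A pair -/
def r2b : List ℕ :=
  [12, 14, 15, 16]

/-- Its preimage -/
def r2h : List ℕ :=
  [0, 2, 4, 3, 4, 4, 5, 4, 4, 5, 8, 9]

/-- Known commuting elements -/
def r2G : List (List ℕ × List ℕ) :=
  [([0, 2, 4, 5, 4, 6, 3, 4, 7], [1, 12, 14, 17, 3, 4, 3, 4, 5, 4, 3, 4, 9]), ([0, 3, 5, 4, 4, 5, 4, 3, 7], [1, 12, 14, 15, 16, 17, 4, 3, 3, 4, 4, 4, 10, 5, 11]), ([0, 1, 2, 3, 5, 4, 4, 4, 3, 5, 8, 9], [0, 1, 2, 14, 15, 4, 5, 4, 5, 3, 4, 3, 8, 10, 5])]

/-- Orbits -/
def r2O : List Orb :=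
  [(0, [(0, []), (6, [1]), (8, [2]), (16, [3]), (7, [1, 1]), (22, [2, 1]), (12, [1, 3]), (1, [2, 1, 1])]), (2, [(2, []), (20, [1]), (5, [2]), (18, [3]), (3, [2, 1]), (11, [1, 2]), (9, [2, 2]), (23, [1, 3])]), (4, [(4, []), (10, [1]), (21, [2]), (17, [1, 1]), (15, [2, 1]), (13, [3, 1]), (19, [2, 1, 1]), (14, [1, 2, 1])])]

/-- The candidates -/
def r2E : List (Code × Wit) :=
  [((865, 984818244535754528103549039458486304), .img [0, 1] []), ((494, 756338174180038548121402889484938241), .ok), ((655, 756338174180038548121402889484938241), .moved (39, 181952309741894632247169086723241198) [12])]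

/-- The second involution moved -/
def r2X : Code :=
  (494, 756338174180038548121402889484938241)

/-- The second conjugator -/
def r2c2 : Code :=
  (334, 858038785645144314457356951627357516)

/-- A pair -/
def r2b2 : List ℕ :=
  [12]

/-- The element of order four moved twice -/
def r2a2 : List ℕ :=
  [12, 15, 16, 4, 4, 3, 3, 4, 4, 3, 4, 4, 8]

/-- The second involution moved twice -/
def r2x2 : List ℕ :=
  [1, 2, 12, 13, 14, 15, 17, 4, 4, 5, 4, 3, 4, 6, 4, 5, 6]

/-- Known commuting elements -/
def r2G2 : List (List ℕ × List ℕ × List ℕ) :=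
  [([0, 2, 3, 4, 5, 4, 3, 4, 4, 3, 11], [2, 13, 14, 15, 16, 3, 4, 4, 5, 4, 3, 4, 4, 11], [0, 15, 16, 17, 4, 4, 5, 4, 4, 5, 11, 4, 3, 8]), ([1, 4, 3, 4, 4, 5, 3, 8, 4, 9], [0, 2, 12, 13, 14, 15, 4, 5, 4, 4, 3, 4, 6, 9], [0, 15, 16, 5, 3, 4, 4, 4, 5, 3, 7, 8])]

/-- Orbits -/
def r2O2 : List Orb :=
  [(0, [(0, []), (19, [2]), (12, [1, 2])]), (1, [(1, []), (15, [1]), (17, [2]), (4, [2, 1]), (8, [2, 2]), (16, [2, 2, 1]), (6, [1, 2, 2]), (13, [1, 2, 2, 1])]), (2, [(2, []), (3, [2]), (5, [1, 2])]), (7, [(7, []), (10, [2]), (14, [2, 2]), (22, [1, 2, 2])]), (9, [(9, []), (18, [2]), (20, [2, 2]), (23, [1, 2, 2])]), (11, [(11, [])]), (21, [(21, [])])]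

/-- The candidates -/
def r2E2 : List (Code × Wit) :=
  [((968, 984818244535754528103549039458486304), .pair), ((1510, 984818244535754528103549039458486304), .img [2] [0, 2]), ((1582, 984818244535754528103549039458486304), .ok)]

/-- An element of order three fixing the pair -/
def nineA : Code :=
  (0, 176109680151939183200555075015641568)

/-- Another one -/
def nineB : Code :=
  (0, 859975804409387658531032990637722357)

/-- Their fixed vectors -/
def nineV : List (List ℕ) :=
  [[8, 23, 354, 678, 1223], [8, 23, 354, 678, 1223], [23, 41, 130, 323, 517], [23, 37, 141, 335, 518], [23, 105, 259, 686, 1161], [23, 41, 130, 323, 517], [23, 105, 259, 686, 1161], [23, 37, 141, 335, 518]]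

/-- Orbits -/
def nineO : List (List Orb) :=
  [[(0, [(0, []), (21, [6]), (16, [6, 6])]), (1, [(1, []), (15, [5]), (23, [6]), (19, [5, 5]), (4, [6, 5]), (20, [6, 6]), (9, [6, 5, 5]), (14, [6, 6, 5]), (5, [6, 6, 5, 5])]), (2, [(2, [])]), (3, [(3, [])]), (6, [(6, []), (11, [5]), (13, [6])]), (7, [(7, []), (17, [5]), (22, [5, 5])]), (8, [(8, [])]), (10, [(10, []), (12, [5]), (18, [5, 5])])], [(0, [(0, []), (21, [6]), (16, [6, 6])]), (1, [(1, []), (15, [5]), (23, [6]), (19, [5, 5]), (4, [6, 5]), (20, [6, 6]), (9, [6, 5, 5]), (14, [6, 6, 5]), (5, [6, 6, 5, 5])]), (2, [(2, [])]), (3, [(3, [])]), (6, [(6, []), (11, [5]), (13, [6])]), (7, [(7, []), (17, [5]), (22, [5, 5])]), (8, [(8, [])]), (10, [(10, []), (12, [5]), (18, [5, 5])])], [(0, [(0, []), (21, [6]), (16, [6, 6])]), (1, [(1, []), (15, [5]), (23, [6]), (19, [5, 5]), (4, [6, 5]), (20, [6, 6]), (9, [6, 5, 5]), (14, [6, 6, 5]), (5, [6, 6, 5, 5])]), (2, [(2, [])]), (3, [(3, [])]), (6, [(6, []), (11, [5]), (13, [6])]), (7, [(7, []), (17, [5]), (22, [5, 5])]), (8, [(8, [])]), (10, [(10, []), (12, [5]), (18, [5,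 5])])], [(0, [(0, []), (21, [6]), (16, [6, 6])]), (1, [(1, []), (15, [5]), (23, [6]), (19, [5, 5]), (4, [6, 5]), (20, [6, 6]), (9, [6, 5, 5]), (14, [6, 6, 5]), (5, [6, 6, 5, 5])]), (2, [(2, [])]), (3, [(3, [])]), (6, [(6, []), (11, [5]), (13, [6])]), (7, [(7, []), (17, [5]), (22, [5, 5])]), (8, [(8, [])]), (10, [(10, []), (12, [5]), (18, [5, 5])])], [(0, [(0, []), (21, [6]), (16, [6, 6])]), (1, [(1, []), (15, [5]), (23, [6]), (19, [5, 5]), (4, [6, 5]), (20, [6, 6]), (9, [6, 5, 5]), (14, [6, 6, 5]), (5, [6, 6, 5, 5])]), (2, [(2, [])]), (3, [(3, [])]), (6, [(6, []), (11, [5]), (13, [6])]), (7, [(7, []), (17, [5]), (22, [5, 5])]), (8, [(8, [])]), (10, [(10, []), (12, [5]), (18, [5, 5])])], [(0, [(0, []), (21, [6]), (16, [6, 6])]), (1, [(1, []), (15, [5]), (23, [6]), (19, [5, 5]), (4, [6, 5]), (20, [6, 6]), (9, [6, 5, 5]), (14, [6, 6, 5]), (5, [6, 6, 5, 5])]), (2, [(2, [])]), (3, [(3, [])]), (6, [(6, []), (11, [5]), (13, [6])]), (7, [(7, []), (17, [5]), (22, [5, 5])]), (8, [(8, [])]), (10, [(10, []), (12, [5]), (18, [5, 5])])], [(0, [(0, []), (21, [6]), (16, [6,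 6])]), (1, [(1, []), (15, [5]), (23, [6]), (19, [5, 5]), (4, [6, 5]), (20, [6, 6]), (9, [6, 5, 5]), (14, [6, 6, 5]), (5, [6, 6, 5, 5])]), (2, [(2, [])]), (3, [(3, [])]), (6, [(6, []), (11, [5]), (13, [6])]), (7, [(7, []), (17, [5]), (22, [5, 5])]), (8, [(8, [])]), (10, [(10, []), (12, [5]), (18, [5, 5])])], [(0, [(0, []), (21, [6]), (16, [6, 6])]), (1, [(1, []), (15, [5]), (23, [6]), (19, [5, 5]), (4, [6, 5]), (20, [6, 6]), (9, [6, 5, 5]), (14, [6, 6, 5]), (5, [6, 6, 5, 5])]), (2, [(2, [])]), (3, [(3, [])]), (6, [(6, []), (11, [5]), (13, [6])]), (7, [(7, []), (17, [5]), (22, [5, 5])]), (8, [(8, [])]), (10, [(10, []), (12, [5]), (18, [5, 5])])]]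

/-- The commuting vectors -/
def nineE : List (List ℕ) :=
  [[23, 362, 381, 686, 697, 964, 979], [23, 362, 381, 686, 697, 964, 979], [23, 362, 381, 686, 697, 964, 979], [23, 362, 381, 686, 697, 964, 979], [23, 362, 381, 686, 697, 964, 979], [23, 362, 381, 686, 697, 964, 979], [23, 362, 381, 686, 697, 964, 979], [23, 362, 381, 686, 697, 964, 979]]

end CfsgLib.JFourUniq
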