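import Cfsg.Prelude.Def_MonsterType
import Cfsg.Agent.Lib.JFour.FromDef
import Cfsg.Agent.Lib.JFourConv.FromCentralizer
import Cfsg.Agent.Lib.Layer.Basic

/-!
# The type from an extraspecial centralizer with the automorphisms of the Mathieu group on top
-/

set_option autoImplicit false
set_option maxRecDepth 100000
set_option linter.style.haveILetI false

open Cfsg
open scoped commutatorElement

namespace CfsgLib.JFourUniq

/-- A subgroup between `Q` and a subgroup three times as large, not containing the latter, meets it in `Q`. -/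
theorem inf_eq_of_three {H : Type*} [Group H] [Finite H] {Q N K : Subgroup H} (hQN : Q ≤ N)
    (hN : Nat.card ↥N = 3 * Nat.card ↥Q) (hQK : Q ≤ K) (hNK : ¬ N ≤ K) : K ⊓ N = Q := by
  obtain ⟨k, hk⟩ := Subgroup.card_dvd_of_le (le_inf hQK hQN)
  have h := Subgroup.card_dvd_of_le (inf_le_right : K ⊓ N ≤ N)
  rw [hk, hN, mul_comm 3] at h
  rcases (Nat.dvd_prime Nat.prime_three).1 (Nat.dvd_of_mul_dvd_mul_left Nat.card_pos h) with rfl | rfl
  · exact (Subgroup.eq_of_le_of_card_ge (le_inf hQK hQN) (by rw [hk, mul_one])).symm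
  · exact absurd ((Subgroup.eq_of_le_of_card_ge inf_le_right (by rw [hk, hN, mul_comm])).ge.trans inf_le_left) hNK

theorem isOfType_of_extraspecial {G : Type*} [Group G] [Finite G] {τ : G}
    {Q N : Subgroup ↥(Subgroup.centralizer ({τ} : Set G))} [Q.Normal] [N.Normal]
    (hS : Cfsg.IsExtraspecialCentralizerSetting τ Q 6) (hQN : Q ≤ N) (hN3 : Nat.card ↥N = 3 * Nat.card ↥Q)
    (hns : ∀ K : Subgroup ↥(Subgroup.centralizer ({τ} : Set G)), K ⊓ N = Q → K ⊔ N = ⊤ → False)
    (f : ↥(Subgroup.centralizer ({τ} : Set G)) ⧸ N ≃* MulAut ↥Cfsg.Spor.M22) :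
    IsOfJankoFourTypeAt τ := by
  classical
  obtain ⟨hτ, hF, hex, hcard, -⟩ := hS
  haveI := JFour.M22Cert.small.simple
  let ψ : ↥(Subgroup.centralizer ({τ} : Set G)) →* MulAut ↥Cfsg.Spor.M22 :=
    f.toMonoidHom.comp (QuotientGroup.mk' N)
  have hψs : Function.Surjective ψ := f.surjective.comp (QuotientGroup.mk'_surjective N)
  have hψk : ∀ x, ψ x = 1 ↔ x ∈ N := fun x => by
    show f (QuotientGroup.mk x) = 1 ↔ _
    rw [EmbeddingLike.map_eq_one_iff, QuotientGroup.eq_one_iff]
  set I := (MulAut.conj : ↥Cfsg.Spor.M22 →* MulAut ↥Cfsg.Spor.M22).range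
  have hI : I.index = 2 := by
    rw [Subgroup.index_eq_card]
    exact Cfsg.Agent.S2062.result
  haveI : I.Normal := Subgroup.normal_of_index_eq_two hI
  have hinj : Function.Injective (MulAut.conj : ↥Cfsg.Spor.M22 →* MulAut ↥Cfsg.Spor.M22) := by
    refine (injective_iff_map_eq_one _).2 fun v hv => JFour.M22Cert.small.center_eq_one fun w => ?_
    have := congrArg (fun φ : MulAut ↥Cfsg.Spor.M22 => φ w) hv
    simp only [MulAut.conj_apply, MulAut.one_apply] at this
    exact (mul_inv_eq_iff_eq_mul.1 this).symm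
  set M := I.comap ψ with hMdef
  haveI : M.Normal := Subgroup.Normal.comap inferInstance ψ
  have hMidx : M.index = 2 := by rw [hMdef, Subgroup.index_comap_of_surjective _ hψs, hI]
  have hNM : N ≤ M := fun n hn => by
    rw [hMdef, Subgroup.mem_comap, (hψk n).2 hn]
    exact one_mem _
  -- the middle layer is perfect modulo the normal subgroup
  have hperN : M ≤ ⁅M, M⁆ ⊔ N := by
    have hp : commutator ↥Cfsg.Spor.M22 = ⊤ := by
      refine ((inferInstance : (commutator ↥Cfsg.Spor.M22).Normal).eq_bot_or_eq_top).resolve_left fun h => ?_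
      have hc : ∀ v : ↥Cfsg.Spor.M22, v = 1 := fun v => JFour.M22Cert.small.center_eq_one fun w => by
        rw [commutator_def, Subgroup.commutator_eq_bot_iff_le_centralizer] at h
        first
          | exact Subgroup.mem_centralizer_iff.1 (h (Subgroup.mem_top v)) w (Subgroup.mem_top w)
          | exact (Subgroup.mem_centralizer_iff.1 (h (Subgroup.mem_top v)) w (Subgroup.mem_top w)).symm
      haveI : Subsingleton ↥Cfsg.Spor.M22 := ⟨fun a b => (hc a).trans (hc b).symm⟩
      have h2 := JFour.M22Cert.small.card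
      rw [Nat.card_unique] at h2
      omega
    have hII : I ≤ (⁅M, M⁆).map ψ := by
      rw [Subgroup.map_commutator, hMdef, Subgroup.map_comap_eq_self_of_surjective hψs]
      show (MulAut.conj : ↥Cfsg.Spor.M22 →* MulAut ↥Cfsg.Spor.M22).range ≤ _
      rw [MonoidHom.range_eq_map]
      conv_lhs => rw [← hp, commutator_def, Subgroup.map_commutator, ← MonoidHom.range_eq_map]
    intro m hm
    obtain ⟨m', hm', he⟩ := hII hm
    have hn : m'⁻¹ * m ∈ N := (hψk _).1 (by rw [map_mul, map_inv, he, inv_mul_cancel])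
    have := Subgroup.mul_mem_sup hm' hn
    rwa [mul_inv_cancel_left] at this
  -- the middle layer centralizes the factor of order three
  have hcent : ⁅M, N⁆ ≤ Q := by
    haveI : (N.map (QuotientGroup.mk' Q)).Normal :=
      Subgroup.Normal.map inferInstance _ (QuotientGroup.mk'_surjective Q)
    have h3 : Nat.card ↥(N.map (QuotientGroup.mk' Q)) = 3 := by
      have h := (Q.subgroupOf N).card_eq_card_quotient_mul_card_subgroup
      rw [Nat.card_congr (Subgroup.subgroupOfEquivOfLe hQN).toEquiv, hN3] at h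
      rw [Subgroup.map, ← SetLike.coe_sort_coe] at *
      have h' : Nat.card (↥N ⧸ Q.subgroupOf N) = 3 := (Nat.eq_of_mul_eq_mul_right Nat.card_pos h).symm
      rw [← h']
      let g : ↥N →* ↥(N.map (QuotientGroup.mk' Q)) :=
        ((QuotientGroup.mk' Q).comp N.subtype).codRestrict _ fun n => ⟨n, n.2, rfl⟩
      have hg : Function.Surjective g := fun ⟨_, n, hn, e⟩ => ⟨⟨n, hn⟩, Subtype.ext e⟩
      have hk : g.ker = Q.subgroupOf N := by
        ext n
        rw [MonoidHom.mem_ker, Subgroup.mem_subgroupOf, ← QuotientGroup.eq_one_iff]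
        exact Subtype.ext_iff
      exact (Nat.card_congr ((QuotientGroup.quotientMulEquivOfEq hk.symm).trans
        (QuotientGroup.quotientKerEquivOfSurjective g hg)).toEquiv).symm
    haveI : Fact (Nat.Prime 3) := ⟨Nat.prime_three⟩
    haveI : IsCyclic ↥(N.map (QuotientGroup.mk' Q)) := isCyclic_of_prime_card h3
    have hcomm : ∀ a b : MulAut ↥(N.map (QuotientGroup.mk' Q)), a * b = b * a := fun a b =>
      (IsCyclic.mulAutMulEquiv ↥(N.map (QuotientGroup.mk' Q))).injective (by rw [map_mul, map_mul, mul_comm])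
    let κ : ↥(Subgroup.centralizer ({τ} : Set G)) →* MulAut ↥(N.map (QuotientGroup.mk' Q)) :=
      (MulAut.conjNormal).comp (QuotientGroup.mk' Q)
    have hκ : M ≤ κ.ker := by
      refine hperN.trans (sup_le (Subgroup.commutator_le.2 fun a _ b _ => ?_) fun n hn => ?_)
      · rw [MonoidHom.mem_ker, map_commutatorElement, commutatorElement_eq_one_iff_mul_comm]
        exact hcomm _ _
      · rw [MonoidHom.mem_ker]
        refine MulEquiv.ext fun x => Subtype.ext ?_
        have hnm : (QuotientGroup.mk' Q) n ∈ N.map (QuotientGroup.mk' Q) := ⟨n, hn, rfl⟩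
        have h := congrArg Subtype.val (IsCyclic.commGroup.mul_comm (⟨_, hnm⟩ : ↥(N.map (QuotientGroup.mk' Q))) x)
        show (QuotientGroup.mk' Q) n * (x : _) * ((QuotientGroup.mk' Q) n)⁻¹ = x
        rw [mul_inv_eq_iff_eq_mul]
        exact h
    refine Subgroup.commutator_le.2 fun m hm n hn => ?_
    have h := congrArg Subtype.val (DFunLike.congr_fun (MonoidHom.mem_ker.1 (hκ hm))
      (⟨_, n, hn, rfl⟩ : ↥(N.map (QuotientGroup.mk' Q))))
    change (QuotientGroup.mk' Q) m * (QuotientGroup.mk' Q) n * ((QuotientGroup.mk' Q) m)⁻¹ =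
      (QuotientGroup.mk' Q) n at h
    rw [← QuotientGroup.eq_one_iff, ← QuotientGroup.mk'_apply, commutatorElement_def, map_mul, map_mul, map_mul,
      map_inv, map_inv, h, mul_inv_cancel]
  -- perfection modulo the extraspecial subgroup
  have hperf : M ≤ ⁅M, M⁆ ⊔ Q := by
    set L := ⁅M, M⁆ ⊔ Q
    by_cases hNL : N ≤ L
    · exact hperN.trans (sup_le le_sup_left hNL)
    exfalso
    have hLM : L ≤ M := sup_le (Subgroup.commutator_le_left M M) (hQN.trans hNM)
    have hsup : L ⊔ N = M := le_antisymm (sup_le hLM hNM) (hperN.trans (sup_le_sup_right le_sup_left N))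
    have hinf : L ⊓ N = Q := inf_eq_of_three hQN hN3 le_sup_right hNL
    have hrel : L.relIndex M = 3 := by
      rw [← hsup, sup_comm, Subgroup.relIndex_sup_right, ← Subgroup.inf_relIndex_right, hinf]
      have h := (Q.subgroupOf N).card_eq_card_quotient_mul_card_subgroup
      rw [Nat.card_congr (Subgroup.subgroupOfEquivOfLe hQN).toEquiv, hN3] at h
      exact (Nat.eq_of_mul_eq_mul_right Nat.card_pos h).symm
    have hL6 : L.index = 6 := by
      rw [← Subgroup.relIndex_mul_index hLM, hrel, hMidx]
    haveI : Fact (Nat.Prime 2) := ⟨Nat.prime_two⟩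
    obtain ⟨s, hs⟩ := exists_prime_orderOf_dvd_card' 2
      (show 2 ∣ Nat.card (↥(Subgroup.centralizer ({τ} : Set G)) ⧸ L) by
        rw [← Subgroup.index_eq_card, hL6]; norm_num)
    set K := (Subgroup.zpowers s).comap (QuotientGroup.mk' L)
    have hK : K.index = 3 := by
      rw [Subgroup.index_comap_of_surjective _ (QuotientGroup.mk'_surjective L)]
      have h := (Subgroup.zpowers s).card_mul_index
      rw [Nat.card_zpowers, hs, ← Subgroup.index_eq_card, hL6] at h
      omega
    have hLK : L ≤ K := fun x hx => by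
      show QuotientGroup.mk' L x ∈ Subgroup.zpowers s
      rw [QuotientGroup.mk'_apply, (QuotientGroup.eq_one_iff x).2 hx]
      exact one_mem _
    have hNK : ¬ N ≤ K := fun h => by
      have := Subgroup.index_dvd_of_le (hsup.ge.trans (sup_le hLK h))
      rw [hK, hMidx] at this
      norm_num at this
    refine hns K (inf_eq_of_three hQN hN3 (le_sup_right.trans hLK) hNK) ?_
    have h := Subgroup.index_dvd_of_le (le_sup_left : K ≤ K ⊔ N)
    rw [hK] at h
    rcases (Nat.dvd_prime Nat.prime_three).1 h with h | h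
    · exact Subgroup.index_eq_one.1 h
    · exfalso
      refine hNK ?_
      have he : K = K ⊔ N := Subgroup.eq_of_le_of_card_ge le_sup_left (by
        have e1 := K.card_mul_index
        have e2 := (K ⊔ N).card_mul_index
        rw [hK] at e1
        rw [h] at e2
        omega)
      rw [he]
      exact le_sup_right
  have hself : Subgroup.centralizer (Q : Set ↥(Subgroup.centralizer ({τ} : Set G))) ≤ Q := by
    rw [← hF]
    exact CfsgLib.Layer.centralizer_generalizedFitting_le
  have houter : ∀ c, (∀ m ∈ M, c * m * c⁻¹ * m⁻¹ ∈ N) → c ∈ M := by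
    intro c hc
    refine hNM ((hψk c).1 (MulEquiv.ext fun a => hinj ?_))
    obtain ⟨m, hm⟩ := hψs (MulAut.conj a)
    have hmM : m ∈ M := by
      rw [hMdef, Subgroup.mem_comap, hm]
      exact ⟨a, rfl⟩
    have h := (hψk _).2 (hc m hmM)
    rw [map_mul, map_mul, map_mul, map_inv, map_inv, mul_inv_eq_one, hm] at h
    rw [MulAut.one_apply]
    refine Eq.trans (MulEquiv.ext fun w => ?_) h
    simp [MulAut.conj_apply]
  let g : ↥M →* ↥Cfsg.Spor.M22 := (MonoidHom.ofInjective hinj).symm.toMonoidHom.comp
    ((ψ.comp M.subtype).codRestrict I fun m => m.2)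
  have hgs : Function.Surjective g := (MonoidHom.ofInjective hinj).symm.surjective.comp fun ⟨i, hi⟩ => by
    obtain ⟨x, rfl⟩ := hψs i
    exact ⟨⟨x, hi⟩, rfl⟩
  have hgk : g.ker = N.subgroupOf M := by
    ext m
    rw [MonoidHom.mem_ker, Subgroup.mem_subgroupOf, ← hψk]
    show (MonoidHom.ofInjective hinj).symm _ = 1 ↔ _
    rw [EmbeddingLike.map_eq_one_iff, Subtype.ext_iff]
    rfl
  exact JFourConv.isOfType hτ
    ({ qn := hQN, nm := hNM, idx := hMidx, extra := hex, cardQ := by rw [hcard], cardN := hN3, cent := hcent,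
       perf := hperf, self := hself, outer := houter } : JFourConv.Data Q N M)
    ((QuotientGroup.quotientMulEquivOfEq hgk.symm).trans (QuotientGroup.quotientKerEquivOfSurjective g hgs))

end CfsgLib.JFourUniq
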