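import Cfsg.Agent.Lib.JFourUniq.Relations
import Cfsg.Agent.Lib.JFourOrder.Order
import Cfsg.Agent.Lib.J4Pres.Simple
import Cfsg.Prelude.Def_Spor_J4

/-!
# A group of Janko-four type is the presented fourth Janko group
-/

set_option autoImplicit false
set_option maxRecDepth 100000
set_option linter.unusedSectionVars false

open Cfsg

namespace CfsgLib.JFourUniq

open CfsgLib.CosetEnum (prodW)

theorem prodW_replicate {G : Type*} [Group G] (f : ℕ → G) (w : List ℕ) :
    ∀ n, prodW f (List.replicate n w).flatten = prodW f w ^ n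
  | 0 => by simp [prodW]
  | n + 1 => by
    rw [List.replicate_succ, List.flatten_cons, CosetEnum.prodW_append, prodW_replicate f w n, pow_succ']

/-- **A group of Janko-four type is isomorphic to the presented fourth Janko group.** -/
theorem iso_of_type {G : Type*} [Group G] [Finite G] [IsSimpleGroup G] (hG : ¬ IsMulCommutative G)
    (hT : IsOfJankoFourType G) : Cfsg.Spor.IsoJ4 G := by
  classical
  obtain ⟨z, hJ⟩ := hT
  obtain ⟨V, ⟨R⟩⟩ := exists_real hG hJ
  obtain ⟨hord, -, hz, -⟩ := JFourOrder.order_of_type hG hJ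
  obtain ⟨he, -, -, -, -, -, -, -, hx, hgen, -⟩ := Third.consts
  obtain ⟨hy, hyi, hu, ha, hv, h3⟩ : okC yC = true ∧ okC yiC = true ∧ okC uC = true ∧ okC aC = true ∧
      okC vC = true ∧ gen3.all okC = true := by decide +kernel
  have he3 : orderOf (R.el e3C) = 3 := by
    haveI : Fact (Nat.Prime 3) := ⟨Nat.prime_three⟩
    refine orderOf_eq_prime ?_ (by rw [← R.one]; exact R.el_ne he okC_one (by decide +kernel))
    rw [pow_three, R.mul_el he he, R.mul_el he (R.ok_mul _ _ he he),
      show cMul e3C (cMul e3C e3C) = cOne by decide +kernel, R.one]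
  obtain ⟨t, ht⟩ := exists_central hG hJ he3
  have T : Third R t := ⟨hz, ht⟩
  set X := R.el xC
  set Y := R.el yC
  have hX1 : X ≠ 1 := by
    rw [← R.one]
    exact R.el_ne hx okC_one (by decide +kernel)
  have hXi : X⁻¹ = X := inv_eq_of_mul_eq_one_right (by
    rw [R.mul_el hx hx, show cMul xC xC = cOne by decide +kernel, R.one])
  have hYi : Y⁻¹ = R.el yiC := inv_eq_of_mul_eq_one_right (by
    rw [R.mul_el hy hyi, show cMul yC yiC = cOne by decide +kernel, R.one])
  set g3 : ℕ → G := fun i => R.el (gen3.getD i cOne)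
  have g0 : g3 0 = X := rfl
  have g1 : g3 1 = Y := rfl
  have g2 : g3 2 = Y⁻¹ := hYi.symm
  have hw : ∀ w c, cEq c (cWord gen3 w) = true → R.el c = prodW g3 w := fun w c h => by
    rw [cEq_iff.1 h]
    exact (R.word h3 w).2
  have hrel := mathieu_rels
  simp only [List.all_eq_true, List.mem_cons, List.not_mem_nil, or_false, forall_eq_or_imp, forall_eq,
    cEq_iff] at hrel
  obtain ⟨m1, m2, m3, m4, m5, m6, m7⟩ := hrel
  have hone : ∀ w, cWord gen3 w = cOne → prodW g3 w = 1 := fun w h => by
    rw [← (R.word h3 w).2, h, R.one]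
  replace m1 := hone _ m1
  replace m2 := hone _ m2
  replace m3 := hone _ m3
  replace m4 := hone _ m4
  replace m5 := hone _ m5
  replace m6 := hone _ m6
  replace m7 := hone _ m7
  rw [prodW_replicate] at m3 m4 m5
  rw [prodW_replicate, CosetEnum.prodW_append, prodW_replicate] at m6
  rw [CosetEnum.prodW_append, prodW_replicate, prodW_replicate] at m7
  have hwords := t_words
  simp only [Bool.and_eq_true] at hwords
  obtain ⟨⟨⟨⟨⟨⟨⟨⟨⟨hxw, hww⟩, hxe⟩, hwe⟩, hue⟩, hae⟩, hve⟩, -⟩, -⟩, -⟩ := hwords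
  have htx : t * X = X * t := by
    have h := T.fix_word hxw
    rwa [cEq_iff.1 hxe] at h
  have htw := T.fix_word hww
  rw [cEq_iff.1 hwe, (R.word h3 _).2] at htw
  have e1 := T.rel_one
  rw [hw _ _ hue] at e1
  have e2 := T.rel_two
  rw [hw _ _ hae, hw _ _ hve] at e2
  simp only [prodW_replicate, CosetEnum.prodW_append, CosetEnum.prodW_cons, CosetEnum.prodW_nil, mul_one] at e2
  change (_ : G) = _ at htw e1 e2
  simp only [CosetEnum.prodW_cons, CosetEnum.prodW_nil, mul_one, g0, g1, g2, mul_assoc] at m1 m2 m3 m4 m5 m6 m7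
  set f : Spor.J4.Gen → G := fun
    | .x => X
    | .y => Y
    | .t => t
  have hrels : ∀ r ∈ Spor.coxRelators Spor.J4.edges ∪ {r | r ∈ Spor.J4.extra}, FreeGroup.lift f r = 1 := by
    rintro r (hr | hr)
    · obtain ⟨i, hi, -⟩ := hr
      simp [Spor.coxNodes, Spor.J4.edges] at hi
    · simp only [Spor.J4.extra, Set.mem_setOf_eq, List.mem_cons, List.not_mem_nil, or_false] at hr
      have fx : f .x = X := rfl
      have fy : f .y = Y := rfl
      have ft : f .t = t := rfl
      rcases hr with rfl | rfl | rfl | rfl | rfl | rfl | rfl | rfl | rfl | rfl | rfl | rfl <;>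
        simp only [map_mul, map_pow, map_inv, FreeGroup.lift_apply_of, fx, fy, ft]
      · simpa [pow_two] using m1
      · simpa [pow_three] using m2
      · exact m3
      · simpa [hXi, mul_assoc] using m4
      · simpa [hXi, mul_assoc, mul_inv_rev] using m5
      · simpa [pow_succ, mul_assoc] using m6
      · simpa [mul_assoc] using m7
      · rw [pow_two, T.tt]
      · have hW : Y * X * Y * ((X * Y⁻¹) ^ 2) * ((X * Y) ^ 3) = prodW g3 [1, 0, 1, 0, 2, 0, 2, 0, 1, 0, 1, 0, 1] := by
          simp only [CosetEnum.prodW_cons, CosetEnum.prodW_nil, mul_one, g0, g1, g2, pow_succ, pow_zero, one_mul,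
            mul_assoc]
        rw [hW, T.inv_t]
        generalize prodW g3 [1, 0, 1, 0, 2, 0, 2, 0, 1, 0, 1, 0, 1] = W at htw ⊢
        rw [mul_assoc (t * W⁻¹), htw, mul_assoc t, inv_mul_cancel_left, T.tt]
      · rw [T.inv_t, hXi, htx, mul_assoc X, T.tt, mul_one]
        exact inv_eq_iff_mul_eq_one.1 hXi
      · simpa [CosetEnum.prodW_cons, CosetEnum.prodW_nil, g0, g1, g2, mul_assoc] using e1
      · simpa [CosetEnum.prodW_cons, CosetEnum.prodW_nil, g0, g1, g2, mul_assoc] using e2
  let φ : Spor.J4 →* G := PresentedGroup.toGroup (f := f) hrels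
  haveI := J4Pres.isJ4.1
  have hker : φ.ker = ⊥ := by
    refine ((inferInstance : φ.ker.Normal).eq_bot_or_eq_top).resolve_right fun h => hX1 ?_
    have hm : (PresentedGroup.of Spor.J4.Gen.x : Spor.J4) ∈ φ.ker := by rw [h]; exact Subgroup.mem_top _
    rw [MonoidHom.mem_ker] at hm
    have he : φ (PresentedGroup.of Spor.J4.Gen.x) = X := PresentedGroup.toGroup.of hrels
    rw [← he, hm]
  have hinj : Function.Injective φ := (MonoidHom.ker_eq_bot_iff φ).1 hker
  haveI : Finite Spor.J4 := Finite.of_injective _ hinj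
  have hbij : Function.Bijective φ :=
    (Nat.bijective_iff_injective_and_card _).2 ⟨hinj, by rw [hord, J4Pres.isJ4.2]⟩
  exact ⟨(MulEquiv.ofBijective φ hbij).symm⟩

end CfsgLib.JFourUniq
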