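import Cfsg.Agent.Lib.JFourUniq.Code
import Cfsg.Agent.Lib.JFourOrder.TType
import Cfsg.Agent.Lib.J4Pres.M24Bound
import Cfsg.Agent.Lib.JFour.TSplit

/-!
# The normalizer of an elementary subgroup of order `2 ^ 11` in codes

The complement is chosen so that the first standard generator of the Mathieu group is not conjugate to `z`.
-/

set_option autoImplicit false
set_option maxRecDepth 100000
set_option linter.style.haveILetI false
set_option linter.unusedSectionVars false

open Cfsg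

namespace CfsgLib.JFourUniq

open CfsgLib.Golay (idx pt inM24 validP toPerm packList)
open CfsgLib.LargeFischer (pairD pairMask dp dp_lt sumD)
open CfsgLib.JFour (toT ofT toT_inv toT_lt ofT_lt)

/-- The first standard generator. -/
def xImg : ℕ := 651249720424513949337076594912658503

/-- The second standard generator. -/
def yImg : ℕ := 983991652821723117977489914538052777

/-- The inverse of the second standard generator. -/
def yiImg : ℕ := 984150769626977145061008152743790251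

/-- An involution of the trio stabilizer fixing eight points. -/
def eImg : ℕ := 777112432189642213387772994482408576

theorem basis_ok : ((List.range 11).all fun i =>
    Nat.beq ((basisPairs.getD i []).foldr (fun a r => Nat.xor (pd a.1 a.2) r) 0) (2 ^ i) &&
      (basisPairs.getD i []).all fun a => Nat.blt a.1 24 && Nat.blt a.2 24) = true := by decide +kernel

theorem img_ok : inM24 xImg = true ∧ inM24 yImg = true ∧ inM24 yiImg = true ∧ inM24 eImg = true ∧
    J4Pres.m24Img = [xImg, yImg, yiImg] ∧ inM24 idP = true := by decide +kernel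

theorem idP_apply {i : ℕ} (hi : i < 24) : Golay.ap idP i = i := by
  rw [idP, Golay.ap_packList _ _ (fun a ha => by
    have := List.mem_range.1 ha
    omega) (by simpa using hi)]
  simp [hi]

theorem toPerm_idP : toPerm idP = 1 := by
  have hv : validP idP = true := by
    have := img_ok.2.2.2.2.2
    simp only [inM24, Bool.and_eq_true] at this
    exact this.1
  exact (Golay.eq_toPerm hv 1 fun p => by
    rw [Equiv.Perm.one_apply, idP_apply (Golay.idx_lt p)]).symm

theorem valid_of_in {P : ℕ} (h : inM24 P = true) : validP P = true := by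
  simp only [inM24, Bool.and_eq_true] at h
  exact h.1

theorem mem_of_in {P : ℕ} (h : inM24 P = true) : toPerm P ∈ M24 := Golay.toPerm_mem_M24 h

theorem in_mulP {P Q : ℕ} (hP : inM24 P = true) (hQ : inM24 Q = true) : inM24 (Golay.mulP P Q) = true :=
  Golay.inM24_of_mem (Golay.validP_mulP (valid_of_in hP) (valid_of_in hQ))
    (by rw [Golay.toPerm_mulP (valid_of_in hP) (valid_of_in hQ)]; exact mul_mem (mem_of_in hP) (mem_of_in hQ))

theorem okC_iff {g : Code} : okC g = true ↔ g.1 < 2048 ∧ inM24 g.2 = true := by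
  simp [okC]

theorem exists_pack {σ : Equiv.Perm GolayPt} (hσ : σ ∈ M24) : ∃ P, inM24 P = true ∧ toPerm P = σ := by
  refine ⟨packList ((List.range 24).map fun i => idx (σ (pt i))), ?_⟩
  have hap : ∀ p, idx (σ p) = Golay.ap (packList ((List.range 24).map fun i => idx (σ (pt i)))) (idx p) := by
    intro p
    have hp := Golay.idx_lt p
    rw [Golay.ap_packList _ _ (fun a ha => ?_) (by simpa using hp)]
    · rw [List.getD_eq_getElem _ _ (by simpa using hp), List.getElem_map, List.getElem_range, Golay.pt_idx]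
    · obtain ⟨i, -, rfl⟩ := List.mem_map.1 ha
      have := Golay.idx_lt (σ (pt i))
      omega
  have hv := Golay.validP_of_eq σ hap
  have he := (Golay.eq_toPerm hv σ hap).symm
  exact ⟨Golay.inM24_of_mem hv (by rw [he]; exact hσ), he⟩

theorem pd_eq {i j : ℕ} (hi : i < 24) (hj : j < 24) : pd i j = dp (pt i) (pt j) := by
  rw [pd, dp, Golay.idx_pt i hi, Golay.idx_pt j hj]
  rfl

/-- The action is the linear extension of the action on pairs. -/
theorem act_spec {P : ℕ} (hP : validP P = true) {L : ℕ → ℕ}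
    (hadd : ∀ a < 2048, ∀ b < 2048, L (a ^^^ b) = L a ^^^ L b)
    (hp : ∀ p q, L (dp p q) = dp (toPerm P p) (toPerm P q)) {n : ℕ} (hn : n < 2048) : act P n = L n := by
  have h0 : L 0 = 0 := by
    have := hadd 0 (by norm_num) 0 (by norm_num)
    rwa [Nat.xor_self, Nat.xor_self] at this
  have hsum : ∀ l : List (ℕ × ℕ), (∀ a ∈ l, a.1 < 24 ∧ a.2 < 24) →
      l.foldr (fun a r => Nat.xor (pd a.1 a.2) r) 0 < 2048 ∧
        pairSum P l = L (l.foldr (fun a r => Nat.xor (pd a.1 a.2) r) 0) := by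
    intro l
    induction l with
    | nil => exact fun _ => ⟨by norm_num, h0.symm⟩
    | cons a l ih =>
      intro h
      obtain ⟨h1, h2⟩ := h a List.mem_cons_self
      obtain ⟨i1, i2⟩ := ih fun x hx => h x (List.mem_cons_of_mem _ hx)
      have hlt : pd a.1 a.2 < 2048 := by rw [pd_eq h1 h2]; exact dp_lt _ _
      refine ⟨Nat.xor_lt_two_pow (n := 11) hlt i1, ?_⟩
      show pd (Golay.ap P a.1) (Golay.ap P a.2) ^^^ pairSum P l = L (pd a.1 a.2 ^^^ _)
      rw [hadd _ hlt _ i1, i2, pd_eq h1 h2, hp,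
        Golay.toPerm_apply hP, Golay.toPerm_apply hP, Golay.idx_pt _ h1, Golay.idx_pt _ h2,
        pd_eq (Golay.validP_lt hP h1) (Golay.validP_lt hP h2)]
  have hcol : ∀ i < 11, (actCols P).getD i 0 = L (2 ^ i) := by
    intro i hi
    have h := List.all_eq_true.1 basis_ok i (List.mem_range.2 hi)
    simp only [Bool.and_eq_true, Nat.beq_eq, List.all_eq_true, Nat.blt_eq] at h
    have e : (actCols P).getD i 0 = pairSum P (basisPairs.getD i []) := by
      rw [actCols, List.getD_eq_getElem _ _ (by simpa [basisPairs] using hi), List.getElem_map,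
        List.getD_eq_getElem _ _ (by simpa [basisPairs] using hi)]
    rw [e, (hsum _ h.2).2, h.1]
  have hL : ∀ m n, m < 2 ^ 11 → n < 2 ^ 11 → L (m ^^^ n) = L m ^^^ L n := fun m n hm hn => hadd m hm n hn
  have key := JFourOrder.ap_cols hL (n := n) hn
  rw [act, ← key]
  congr 1
  refine List.ext_getElem (by simp [actCols, basisPairs]) fun i h1 h2 => ?_
  have := hcol i (by simpa [actCols, basisPairs] using h1)
  rw [List.getD_eq_getElem _ _ h1] at this
  simpa [JFourOrder.idn] using this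

/-- The two octad and semiregular counts. -/
theorem fix_counts :
    ((List.range 2048).filter (fun a => Nat.beq (act xImg (JFour.ap toT a)) (JFour.ap toT a))).length = 64 ∧
    ((List.range 2048).filter (fun a => Nat.beq (act eImg (JFour.ap toT a)) (JFour.ap toT a))).length = 128 ∧
    ((List.range 2048).all fun b => !(Nat.beq (Nat.xor b (act xImg b)) 29)) = true ∧
    Golay.mulP xImg xImg = idP ∧ Golay.mulP eImg eImg = idP ∧ xImg ≠ idP ∧ eImg ≠ idP ∧
    Nat.beq (act xImg 29) 29 = true := by decide +kernel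

variable {G : Type*} [Group G] [Finite G]

/-- What is used about the normalizer: an elementary subgroup with its codes. -/
structure Real (G : Type*) [Group G] (z : G) (V : Subgroup G) where
  el : Code → G
  mul : ∀ g h, okC g = true → okC h = true → el (cMul g h) = el g * el h
  ok_mul : ∀ g h, okC g = true → okC h = true → okC (cMul g h) = true
  inj : ∀ g h, okC g = true → okC h = true → el g = el h → g.1 = h.1 ∧ toPerm g.2 = toPerm h.2
  ext : ∀ g h, okC g = true → okC h = true → g.1 = h.1 → toPerm g.2 = toPerm h.2 → el g = el h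
  one : el cOne = 1
  mem : ∀ g, okC g = true → el g ∈ Subgroup.normalizer (V : Set G)
  surj : ∀ x ∈ Subgroup.normalizer (V : Set G), ∃ g, okC g = true ∧ el g = x
  act_lt : ∀ P n, inM24 P = true → n < 2048 → act P n < 2048
  act_pair : ∀ P n, inM24 P = true → n < 2048 → isPair (act P n) = isPair n
  act_xor : ∀ P a b, act P (a ^^^ b) = act P a ^^^ act P b
  act_dp : ∀ P i j, inM24 P = true → i < 24 → j < 24 → act P (pd i j) = pd (Golay.ap P i) (Golay.ap P j)
  pair_iff : ∀ n, n < 2048 → n ≠ 0 → (isPair n = true ↔ ¬ IsConj z (el (n, idP)))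
  cent : ∀ n, n < 2048 → isPair n = true → ∀ x : G, x * el (n, idP) = el (n, idP) * x →
    x ∈ Subgroup.normalizer (V : Set G)
  invol : ∀ x : G, x * x = 1 → x ≠ 1 → ¬ IsConj z x → ∀ n, n < 2048 → isPair n = true →
    ∃ g : G, g * x * g⁻¹ = el (n, idP)
  card_cent : ∀ n, n < 2048 → isPair n = true →
    Nat.card ↥(Subgroup.centralizer ({el (n, idP)} : Set G)) = 2 ^ 11 * 887040
  x_type : ¬ IsConj z (el (0, xImg))
  e_type : IsConj z (el (0, eImg))

section Std

variable {M : Type*} [Group M] [Finite M] {z π : G} {E : Subgroup G} {J : JFour.Ctx M z π E} {g : ℕ → M}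
variable {vec : ℕ → G} {V : Subgroup G} (D : J.Std g vec V)
variable {φ : ↥(Subgroup.normalizer (V : Set G)) →* ↥Cfsg.M24} {k : ↥Cfsg.M24 →* G}
include D

/-- The hypotheses on a section of the action. -/
structure Section (φ : ↥(Subgroup.normalizer (V : Set G)) →* ↥Cfsg.M24) (k : ↥Cfsg.M24 →* G) : Prop where
  ker : φ.ker = V.subgroupOf (Subgroup.normalizer (V : Set G))
  pairs : ∀ (m : ↥(Subgroup.normalizer (V : Set G))) p q,
    (m : G) * JFour.ev J g vec (JFour.ap ofT (dp p q)) * (m : G)⁻¹ =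
      JFour.ev J g vec (JFour.ap ofT (dp ((φ m : Equiv.Perm GolayPt) p) ((φ m : Equiv.Perm GolayPt) q)))
  mem : ∀ σ, k σ ∈ Subgroup.normalizer (V : Set G)
  right : ∀ σ, φ ⟨k σ, mem σ⟩ = σ

open Classical in
/-- The element with a code. -/
noncomputable def elOf (_D : J.Std g vec V) (k : ↥Cfsg.M24 →* G) (c : Code) : G :=
  JFour.ev J g vec (JFour.ap ofT c.1) * (if h : toPerm c.2 ∈ Cfsg.M24 then k ⟨toPerm c.2, h⟩ else 1)

variable (S : Section (J := J) (g := g) (vec := vec) φ k)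
include S

omit S in
theorem elOf_ok {c : Code} (hc : okC c = true) :
    elOf D k c = JFour.ev J g vec (JFour.ap ofT c.1) * k ⟨toPerm c.2, mem_of_in (okC_iff.1 hc).2⟩ := by
  rw [elOf, dif_pos (mem_of_in (okC_iff.1 hc).2)]

theorem conj_vec (σ : ↥Cfsg.M24) {P : ℕ} (hP : inM24 P = true) (hPσ : toPerm P = (σ : Equiv.Perm GolayPt))
    {n : ℕ} (hn : n < 2048) :
    act P n < 2048 ∧ k σ * JFour.ev J g vec (JFour.ap ofT n) * (k σ)⁻¹ = JFour.ev J g vec (JFour.ap ofT (act P n)) := by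
  have hex : ∀ m, ∃ l, l < 2048 ∧
      k σ * JFour.ev J g vec (JFour.ap ofT m) * (k σ)⁻¹ = JFour.ev J g vec (JFour.ap ofT l) := by
    intro m
    obtain ⟨a, ha, hae⟩ := D.ev_surj (D.conj_mem (S.mem σ) (D.ev_mem (JFour.ap ofT m)))
    exact ⟨JFour.ap toT a, toT_lt a, by rw [(toT_inv ha).1, hae]⟩
  choose L hL1 hL2 using hex
  have hinj : ∀ {a b : ℕ}, a < 2048 → b < 2048 →
      JFour.ev J g vec (JFour.ap ofT a) = JFour.ev J g vec (JFour.ap ofT b) → a = b := by
    intro a b ha hb h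
    have := congrArg (JFour.ap toT) (D.ev_inj (ofT_lt a) (ofT_lt b) h)
    rwa [(toT_inv ha).2, (toT_inv hb).2] at this
  have hadd : ∀ a < 2048, ∀ b < 2048, L (a ^^^ b) = L a ^^^ L b := by
    intro a _ b _
    refine hinj (hL1 _) (Nat.xor_lt_two_pow (n := 11) (hL1 a) (hL1 b)) ?_
    rw [← hL2, JFour.ap_xor, D.ev_xor, JFour.ap_xor, D.ev_xor, ← hL2, ← hL2]
    group
  have hp : ∀ p q, L (dp p q) = dp (toPerm P p) (toPerm P q) := by
    intro p q
    refine hinj (hL1 _) (dp_lt _ _) ?_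
    rw [← hL2]
    have h := S.pairs ⟨k σ, S.mem σ⟩ p q
    rwa [S.right σ, ← hPσ] at h
  rw [act_spec (valid_of_in hP) hadd hp hn]
  exact ⟨hL1 n, hL2 n⟩

theorem k_inter {σ : ↥Cfsg.M24} (h : k σ ∈ V) : σ = 1 := by
  have h1 : (⟨k σ, S.mem σ⟩ : ↥(Subgroup.normalizer (V : Set G))) ∈ φ.ker := by rw [S.ker]; exact h
  rwa [MonoidHom.mem_ker, S.right σ] at h1

theorem k_comp : JFourOrder.Comp D k.range where
  le := by rintro _ ⟨σ, rfl⟩; exact S.mem σ
  inf := by
    rw [eq_bot_iff]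
    rintro _ ⟨⟨σ, rfl⟩, h⟩
    rw [k_inter D S h, map_one]
    exact Subgroup.mem_bot.2 rfl
  sup := by
    refine le_antisymm (sup_le (by rintro _ ⟨σ, rfl⟩; exact S.mem σ) Subgroup.le_normalizer) fun x hx => ?_
    set σ := φ ⟨x, hx⟩
    have h1 : (⟨x, hx⟩ : ↥(Subgroup.normalizer (V : Set G))) * ⟨k σ, S.mem σ⟩⁻¹ ∈ φ.ker := by
      rw [MonoidHom.mem_ker, map_mul, map_inv, S.right σ, mul_inv_cancel]
    rw [S.ker] at h1
    have h2 : x = x * (k σ)⁻¹ * k σ := by group
    rw [h2]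
    exact mul_mem (Subgroup.mem_sup_right h1) (Subgroup.mem_sup_left ⟨σ, rfl⟩)

/-- The range count of fixed vectors in the coordinates of the elementary subgroup. -/
theorem fix_card (σ : ↥Cfsg.M24) {P : ℕ} (hP : inM24 P = true) (hPσ : toPerm P = (σ : Equiv.Perm GolayPt)) :
    JFourOrder.fixL 11 ((k_comp D S).mat ⟨k σ, σ, rfl⟩) =
      (List.range 2048).filter (fun a => Nat.beq (act P (JFour.ap toT a)) (JFour.ap toT a)) ∧
    ∀ a < 2048, JFourOrder.InIm ((k_comp D S).mat ⟨k σ, σ, rfl⟩) (JFour.ap ofT a) ↔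
      ∃ b < 2048, a = b ^^^ act P b := by
  set L := (k_comp D S).mat ⟨k σ, σ, rfl⟩
  have hspec := (k_comp D S).mat_spec ⟨k σ, σ, rfl⟩
  have key : ∀ b < 2048, JFour.ap L b = JFour.ap ofT (act P (JFour.ap toT b)) := by
    intro b hb
    refine D.ev_inj (JFour.okL_lt hspec.1 b) (ofT_lt _) ?_
    have h := (conj_vec D S σ hP hPσ (toT_lt b)).2
    rw [(toT_inv hb).1] at h
    exact (hspec.2 b hb).symm.trans h
  refine ⟨?_, fun a ha => ⟨?_, ?_⟩⟩
  · refine List.filter_congr fun a ha => ?_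
    rw [List.mem_range] at ha
    rw [Bool.eq_iff_iff, Nat.beq_eq, Nat.beq_eq, key a ha]
    constructor
    · intro h
      have := congrArg (JFour.ap toT) h
      rwa [(toT_inv (conj_vec D S σ hP hPσ (toT_lt a)).1).2] at this
    · intro h
      rw [h, (toT_inv ha).1]
  · rintro ⟨b, hb, he⟩
    refine ⟨JFour.ap toT b, toT_lt b, ?_⟩
    rw [key b hb] at he
    nth_rw 1 [← (toT_inv hb).1] at he
    rw [← JFour.ap_xor] at he
    have := congrArg (JFour.ap toT) he
    rwa [(toT_inv ha).2, (toT_inv (Nat.xor_lt_two_pow (n := 11) (toT_lt b) (conj_vec D S σ hP hPσ (toT_lt b)).1)).2]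
      at this
  · rintro ⟨b, hb, rfl⟩
    refine ⟨JFour.ap ofT b, ofT_lt b, ?_⟩
    rw [JFour.ap_xor, key _ (ofT_lt b), (toT_inv hb).2]

theorem el_mul {a b : Code} (ha : okC a = true) (hb : okC b = true) :
    okC (cMul a b) = true ∧ elOf D k (cMul a b) = elOf D k a * elOf D k b := by
  obtain ⟨h1, h2⟩ := okC_iff.1 ha
  obtain ⟨h3, h4⟩ := okC_iff.1 hb
  obtain ⟨hlt, hconj⟩ := conj_vec D S ⟨toPerm a.2, mem_of_in h2⟩ h2 rfl h3
  have hok : okC (cMul a b) = true := okC_iff.2 ⟨Nat.xor_lt_two_pow (n := 11) h1 hlt, in_mulP h2 h4⟩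
  refine ⟨hok, ?_⟩
  rw [elOf_ok D hok, elOf_ok D ha, elOf_ok D hb]
  have hk : (⟨toPerm (cMul a b).2, mem_of_in (okC_iff.1 hok).2⟩ : ↥Cfsg.M24) =
      ⟨toPerm a.2, mem_of_in h2⟩ * ⟨toPerm b.2, mem_of_in h4⟩ :=
    Subtype.ext (Golay.toPerm_mulP (valid_of_in h2) (valid_of_in h4))
  rw [hk, map_mul]
  show JFour.ev J g vec (JFour.ap ofT (a.1 ^^^ act a.2 b.1)) * _ = _
  rw [JFour.ap_xor, D.ev_xor, ← hconj]
  group

theorem el_vec {n : ℕ} (hn : n < 2048) : elOf D k (n, idP) = JFour.ev J g vec (JFour.ap ofT n) := by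
  rw [elOf_ok D (okC_iff.2 ⟨hn, img_ok.2.2.2.2.2⟩)]
  rw [show (⟨toPerm idP, mem_of_in img_ok.2.2.2.2.2⟩ : ↥Cfsg.M24) = 1 from Subtype.ext toPerm_idP, map_one,
    mul_one]

theorem el_zero {P : ℕ} (hP : inM24 P = true) : elOf D k (0, P) = k ⟨toPerm P, mem_of_in hP⟩ := by
  rw [elOf_ok D (okC_iff.2 ⟨by norm_num, hP⟩)]
  show JFour.ev J g vec (JFour.ap ofT 0) * _ = _
  rw [JFour.ap_zero, D.ev_zero, one_mul]

theorem isD_el {n : ℕ} (hn : n < 2048) : JFour.IsD z V (elOf D k (n, idP)) ↔ isPair n = true := by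
  rw [el_vec D S hn, D.isD_pairs (ofT_lt n), (toT_inv hn).2]
  rfl

theorem el_inj {a b : Code} (ha : okC a = true) (hb : okC b = true) (h : elOf D k a = elOf D k b) :
    a.1 = b.1 ∧ toPerm a.2 = toPerm b.2 := by
  rw [elOf_ok D ha, elOf_ok D hb] at h
  obtain ⟨h1, h2⟩ := (k_comp D S).split_unique (k := ⟨_, _, rfl⟩) (l := ⟨_, _, rfl⟩) (ofT_lt _) (ofT_lt _) h
  refine ⟨?_, ?_⟩
  · have := congrArg (JFour.ap toT) h1
    rwa [(toT_inv (okC_iff.1 ha).1).2, (toT_inv (okC_iff.1 hb).1).2] at this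
  · have h3 : k ((⟨toPerm a.2, mem_of_in (okC_iff.1 ha).2⟩ : ↥Cfsg.M24) *
        (⟨toPerm b.2, mem_of_in (okC_iff.1 hb).2⟩)⁻¹) = 1 := by
      rw [map_mul, map_inv]
      exact mul_inv_eq_one.2 (congrArg Subtype.val h2)
    have h4 := k_inter D S (h3 ▸ V.one_mem)
    exact congrArg Subtype.val (mul_inv_eq_one.1 h4)

theorem el_surj {x : G} (hx : x ∈ Subgroup.normalizer (V : Set G)) :
    ∃ c, okC c = true ∧ elOf D k c = x := by
  obtain ⟨a, ha, ⟨_, σ, rfl⟩, e⟩ := (k_comp D S).split hx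
  obtain ⟨P, hP, hPσ⟩ := exists_pack σ.2
  have hok : okC (JFour.ap toT a, P) = true := okC_iff.2 ⟨toT_lt a, hP⟩
  refine ⟨_, hok, ?_⟩
  rw [elOf_ok D hok, (toT_inv ha).1, e, show (⟨toPerm P, mem_of_in hP⟩ : ↥Cfsg.M24) = σ from Subtype.ext hPσ]

omit D S in
theorem sq_one {P : ℕ} (hP : inM24 P = true) (h2 : Golay.mulP P P = idP) :
    (⟨toPerm P, mem_of_in hP⟩ : ↥Cfsg.M24) * ⟨toPerm P, mem_of_in hP⟩ = 1 :=
  Subtype.ext (by
    show toPerm P * toPerm P = 1
    rw [← Golay.toPerm_mulP (valid_of_in hP) (valid_of_in hP), h2, toPerm_idP])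

omit D S in
theorem ne_one {P : ℕ} (hP : inM24 P = true) {i : ℕ} (hi : i < 24) (h : Golay.ap P i ≠ i) :
    (⟨toPerm P, mem_of_in hP⟩ : ↥Cfsg.M24) ≠ 1 := fun e => h (by
  have := congrArg (fun τ : ↥Cfsg.M24 => idx ((τ : Equiv.Perm GolayPt) (pt i))) e
  simpa [Golay.idx_toPerm (valid_of_in hP), Golay.idx_pt i hi] using this)

theorem e_conj : IsConj z (elOf D k (0, eImg)) := by
  have hK := k_comp D S
  set σ : ↥Cfsg.M24 := ⟨toPerm eImg, mem_of_in img_ok.2.2.2.1⟩
  obtain ⟨hfl, hin⟩ := fix_card D S σ img_ok.2.2.2.1 rfl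
  have hsq : (⟨k σ, σ, rfl⟩ : ↥k.range) * ⟨k σ, σ, rfl⟩ = 1 :=
    Subtype.ext (show k σ * k σ = 1 by rw [← map_mul, sq_one img_ok.2.2.2.1 fix_counts.2.2.2.2.1, map_one])
  have hne : (⟨k σ, σ, rfl⟩ : ↥k.range) ≠ 1 := fun e =>
    ne_one img_ok.2.2.2.1 (i := 1) (by norm_num) (by decide +kernel)
      (k_inter D S (show k σ ∈ V by rw [show k σ = 1 from congrArg Subtype.val e]; exact V.one_mem))
  have h := hK.two_A hsq hne (by rw [hfl]; exact fix_counts.2.1) (a := 0) (by norm_num) (JFour.ap_zero _)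
  rw [D.ev_zero, one_mul] at h
  rw [el_zero D S img_ok.2.2.2.1]
  refine h.2 ⟨0, by norm_num, by rw [JFour.ap_zero]; rfl⟩

/-- If the first generator is conjugate to `z`, the twisted one is not. -/
theorem x_twist (h : IsConj z (elOf D k (0, xImg))) : ¬ IsConj z (elOf D k (29, xImg)) := by
  have hK := k_comp D S
  set σ : ↥Cfsg.M24 := ⟨toPerm xImg, mem_of_in img_ok.1⟩
  obtain ⟨hfl, hin⟩ := fix_card D S σ img_ok.1 rfl
  have hsq : (⟨k σ, σ, rfl⟩ : ↥k.range) * ⟨k σ, σ, rfl⟩ = 1 :=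
    Subtype.ext (show k σ * k σ = 1 by rw [← map_mul, sq_one img_ok.1 fix_counts.2.2.2.1, map_one])
  have hne : (⟨k σ, σ, rfl⟩ : ↥k.range) ≠ 1 := fun e =>
    ne_one img_ok.1 (i := 0) (by norm_num) (by decide +kernel)
      (k_inter D S (show k σ ∈ V by rw [show k σ = 1 from congrArg Subtype.val e]; exact V.one_mem))
  rw [el_zero D S img_ok.1] at h
  have hfix : JFour.ap (hK.mat ⟨k σ, σ, rfl⟩) (JFour.ap ofT 29) = JFour.ap ofT 29 := by
    refine D.ev_inj (JFour.okL_lt (hK.mat_spec _).1 _) (ofT_lt _) ?_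
    rw [← (hK.mat_spec ⟨k σ, σ, rfl⟩).2 _ (ofT_lt 29)]
    have := (conj_vec D S σ img_ok.1 rfl (show 29 < 2048 by norm_num)).2
    rwa [Nat.eq_of_beq_eq_true fix_counts.2.2.2.2.2.2.2] at this
  have h2 := hK.two_B hsq hne (by rw [hfl]; exact fix_counts.1) (ofT_lt 29) hfix
  rw [elOf_ok D (okC_iff.2 ⟨by norm_num, img_ok.1⟩)]
  intro hc
  obtain ⟨b, hb, he⟩ := (hin 29 (by norm_num)).1 ((h2.1 hc).2 h)
  have := List.all_eq_true.1 fix_counts.2.2.1 b (List.mem_range.2 hb)
  simp only [Bool.not_eq_true', Bool.eq_false_iff, ne_eq, Nat.beq_eq] at this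
  exact this he.symm

/-- The codes, given the type of the first generator. -/
noncomputable def realOf (hx : ¬ IsConj z (elOf D k (0, xImg))) : Real G z V where
  el := elOf D k
  mul a b ha hb := (el_mul D S ha hb).2
  ok_mul a b ha hb := (el_mul D S ha hb).1
  inj a b := el_inj D S
  ext a b ha hb h1 h2 := by
    rw [elOf_ok D ha, elOf_ok D hb]
    exact congrArg₂ (· * ·) (congrArg (fun n => JFour.ev J g vec (JFour.ap ofT n)) h1)
      (congrArg k (Subtype.ext h2))
  one := by rw [cOne, el_vec D S (by norm_num), JFour.ap_zero, D.ev_zero]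
  mem c hc := by
    rw [elOf_ok D hc]
    exact mul_mem (Subgroup.le_normalizer (D.ev_mem _)) (S.mem _)
  surj x := el_surj D S
  act_lt P n hP hn := (conj_vec D S ⟨_, mem_of_in hP⟩ hP rfl hn).1
  act_pair P n hP hn := by
    obtain ⟨hlt, he⟩ := conj_vec D S ⟨_, mem_of_in hP⟩ hP rfl hn
    rw [Bool.eq_iff_iff, ← isD_el D S hlt, ← isD_el D S hn, el_vec D S hlt, el_vec D S hn, ← he]
    refine ⟨fun h => ?_, JFour.Ctx.Std.IsD.conj D (S.mem _)⟩
    have := JFour.Ctx.Std.IsD.conj D (inv_mem (S.mem ⟨_, mem_of_in hP⟩)) h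
    simpa [mul_assoc] using this
  act_xor P a b := JFour.ap_xor _ a b
  act_dp P i j hP hi hj := by
    obtain ⟨hlt, he⟩ := conj_vec D S ⟨_, mem_of_in hP⟩ hP rfl (dp_lt (pt i) (pt j))
    have h := S.pairs ⟨k ⟨_, mem_of_in hP⟩, S.mem _⟩ (pt i) (pt j)
    rw [S.right] at h
    have h' := congrArg (JFour.ap toT) (D.ev_inj (ofT_lt _) (ofT_lt _) (he.symm.trans h))
    rw [(toT_inv hlt).2, (toT_inv (dp_lt _ _)).2] at h'
    rw [pd_eq hi hj, h', Golay.toPerm_apply (valid_of_in hP), Golay.toPerm_apply (valid_of_in hP),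
      Golay.idx_pt i hi, Golay.idx_pt j hj,
      ← pd_eq (Golay.validP_lt (valid_of_in hP) hi) (Golay.validP_lt (valid_of_in hP) hj)]
  pair_iff n hn h0 := by
    rw [← isD_el D S hn]
    refine ⟨fun h => h.2.2, fun h => ⟨?_, ?_, h⟩⟩
    · rw [el_vec D S hn]; exact D.ev_mem _
    · rw [el_vec D S hn, ← D.ev_zero]
      intro e
      have := congrArg (JFour.ap toT) (D.ev_inj (ofT_lt n) (by norm_num) e)
      rw [(toT_inv hn).2, JFour.ap_zero] at this
      exact h0 this
  cent n hn hp x hx := D.cent_le_normalizer ((isD_el D S hn).2 hp) hx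
  invol x h2 h1 hz n hn hp := by
    rcases D.invol_cases h2 h1 with h | ⟨d, hd, hc⟩
    · exact absurd h hz
    · obtain ⟨c, hc⟩ := isConj_iff.1 hc
      obtain ⟨m, -, hm⟩ := D.D_trans hd ((isD_el D S hn).2 hp)
      exact ⟨m * c, by rw [← hm, ← hc]; group⟩
  card_cent n hn hp := D.card_cent ((isD_el D S hn).2 hp)
  x_type := hx
  e_type := e_conj D S

end Std

/-- **The codes exist.** -/
theorem exists_real [IsSimpleGroup G] (hG : ¬ IsMulCommutative G) {z : G} (hJ : IsOfJankoFourTypeAt z) :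
    ∃ V : Subgroup G, Nonempty (Real G z V) := by
  classical
  obtain ⟨π, -, J, g, vec, F⟩ := JFour.exists_full hG hJ.choose_spec
  obtain ⟨V, hV⟩ := F.exists_isV
  have D : J.Std g vec V := ⟨F, hV, JFour.unique11_of_type (G := G) ⟨z, hJ⟩⟩
  obtain ⟨φ, hker, -, hpairs⟩ := D.exists_hom
  obtain ⟨K, hKN, hKV, hKs, -⟩ := D.exists_complement
  -- the inverse of the action on the complement
  have hsec : ∀ σ : ↥Cfsg.M24, ∃ x : ↥(Subgroup.normalizer (V : Set G)), (x : G) ∈ K ∧ φ x = σ := by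
    intro σ
    obtain ⟨φ', hker', hsurj', hpairs'⟩ := D.exists_hom
    obtain ⟨m, hm⟩ := hsurj' σ
    have hφ : φ m = φ' m := by
      refine Subtype.ext (LargeFischer.perm_unique fun p q => ?_)
      have h1 := (hpairs m p q).symm.trans (hpairs' m p q)
      have h2 := congrArg (JFour.ap toT) (D.ev_inj (ofT_lt _) (ofT_lt _) h1)
      rwa [(toT_inv (dp_lt _ _)).2, (toT_inv (dp_lt _ _)).2] at h2
    have hc : JFourOrder.Comp D K := ⟨hKN, hKV, hKs⟩
    obtain ⟨a, -, x, hx⟩ := hc.split m.2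
    refine ⟨⟨x, hKN x.2⟩, x.2, ?_⟩
    rw [← hm, ← hφ]
    have : m = (⟨JFour.ev J g vec a, Subgroup.le_normalizer (D.ev_mem a)⟩ : ↥(Subgroup.normalizer (V : Set G))) *
        ⟨x, hKN x.2⟩ := Subtype.ext hx
    rw [this, map_mul, MonoidHom.mem_ker.1 (show (⟨JFour.ev J g vec a, _⟩ : ↥(Subgroup.normalizer (V : Set G))) ∈ φ.ker
      by rw [hker]; exact D.ev_mem a), one_mul]
  choose s hsK hsφ using hsec
  have huniq : ∀ x y : ↥(Subgroup.normalizer (V : Set G)), (x : G) ∈ K → (y : G) ∈ K → φ x = φ y → x = y := by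
    intro x y hx hy h
    have h1 : x * y⁻¹ ∈ φ.ker := by rw [MonoidHom.mem_ker, map_mul, map_inv, h, mul_inv_cancel]
    rw [hker] at h1
    have h2 : ((x * y⁻¹ : ↥(Subgroup.normalizer (V : Set G))) : G) ∈ K ⊓ V := ⟨K.mul_mem hx (K.inv_mem hy), h1⟩
    rw [hKV, Subgroup.mem_bot] at h2
    exact mul_inv_eq_one.1 (Subtype.ext h2)
  let k : ↥Cfsg.M24 →* G := MonoidHom.mk' (fun σ => (s σ : G)) fun a b => congrArg Subtype.val
    (huniq (s (a * b)) (s a * s b) (hsK _) (mul_mem (hsK a) (hsK b)) (by rw [map_mul, hsφ, hsφ, hsφ]))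
  have S : Section (J := J) (g := g) (vec := vec) φ k :=
    ⟨hker, hpairs, fun σ => (s σ).2, fun σ => hsφ σ⟩
  by_cases hx : IsConj z (elOf D k (0, xImg))
  swap
  · exact ⟨V, ⟨realOf D S hx⟩⟩
  -- twist the complement
  set T : List Code := [(29, xImg), (0, yImg), (0, yiImg)] with hT
  let f : ℕ → G := fun i => elOf D k (T.getD i cOne)
  have hTok : (T.all okC && cEq (cMul (0, yImg) (0, yiImg)) cOne &&
      J4Pres.m24CertG.rels.all fun r => r.all (fun i => Nat.blt i 3) && cEq (cWord T r) cOne) = true := by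
    decide +kernel
  simp only [Bool.and_eq_true, List.all_eq_true, Nat.blt_eq, cEq_iff] at hTok
  have hone : elOf D k cOne = 1 := by rw [cOne, el_vec D S (by norm_num), JFour.ap_zero, D.ev_zero]
  have hTi : ∀ i, okC (T.getD i cOne) = true := by
    intro i
    by_cases hi : i < T.length
    · rw [List.getD_eq_getElem _ _ hi]; exact hTok.1.1 _ (List.getElem_mem _)
    · rw [List.getD_eq_default _ _ (by omega)]; decide +kernel
  have hword : ∀ w : List ℕ, okC (cWord T w) = true ∧ CosetEnum.prodW f w = elOf D k (cWord T w) := by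
    intro w
    induction w with
    | nil =>
      refine ⟨by decide +kernel, ?_⟩
      rw [CosetEnum.prodW_nil]
      exact hone.symm
    | cons i w ih =>
      obtain ⟨h1, h2⟩ := el_mul D S (hTi i) ih.1
      exact ⟨h1, by rw [CosetEnum.prodW_cons, ih.2]; exact h2.symm⟩
  have hy : f 1 * f 2 = 1 := by
    obtain ⟨-, h2⟩ := el_mul D S (hTi 1) (hTi 2)
    rw [show cMul (T.getD 1 cOne) (T.getD 2 cOne) = cOne from hTok.1.2, hone] at h2
    exact h2.symm
  let lf : J4Pres.M24P →* G := PresentedGroup.toGroup (f := fun i : Fin 2 => f i.val) (by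
    rintro x ⟨r, hr, rfl⟩
    obtain ⟨hr3, hr1⟩ := hTok.2 r hr
    rw [CosetEnum.map_prodW, ← hone, ← hr1, ← (hword r).2]
    refine CosetEnum.prodW_congr fun i hi => ?_
    have := hr3 i hi
    interval_cases i
    · simp [CosetEnum.twoFree]
    · simp [CosetEnum.twoFree]
    · simp [CosetEnum.twoFree, eq_comm (a := (f 1)⁻¹), inv_eq_of_mul_eq_one_right hy])
  have hfm : ∀ i, f i ∈ Subgroup.normalizer (V : Set G) := fun i => by
    show elOf D k _ ∈ _
    rw [elOf_ok D (hTi i)]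
    exact mul_mem (Subgroup.le_normalizer (D.ev_mem _)) (S.mem _)
  have hfφ : ∀ i < 3, ((φ ⟨f i, hfm i⟩ : ↥Cfsg.M24) : Equiv.Perm GolayPt) = J4Pres.m24Act i := by
    intro i hi
    have e : (⟨f i, hfm i⟩ : ↥(Subgroup.normalizer (V : Set G))) =
        ⟨_, Subgroup.le_normalizer (D.ev_mem (JFour.ap ofT (T.getD i cOne).1))⟩ *
          ⟨k ⟨_, mem_of_in (okC_iff.1 (hTi i)).2⟩, S.mem _⟩ := Subtype.ext (elOf_ok D (hTi i))
    rw [e, map_mul, MonoidHom.mem_ker.1 (show (⟨_, Subgroup.le_normalizer (D.ev_mem (JFour.ap ofT (T.getD i cOne).1))⟩ :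
      ↥(Subgroup.normalizer (V : Set G))) ∈ φ.ker by rw [hker]; exact D.ev_mem _), one_mul, S.right]
    show toPerm (T.getD i cOne).2 = J4Pres.m24Act i
    rw [J4Pres.m24Act, img_ok.2.2.2.2.1, hT]
    interval_cases i <;> rfl
  have hlm : ∀ u, lf u ∈ Subgroup.normalizer (V : Set G) := by
    have h : lf.range ≤ Subgroup.normalizer (V : Set G) := by
      rw [MonoidHom.range_eq_map, ← PresentedGroup.closure_range_of, MonoidHom.map_closure, Subgroup.closure_le]
      rintro _ ⟨_, ⟨i, rfl⟩, rfl⟩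
      show lf (PresentedGroup.of i) ∈ _
      rw [PresentedGroup.toGroup.of]
      exact hfm i.val
    exact fun u => h ⟨u, rfl⟩
  have hact : ∀ u, ((φ ⟨lf u, hlm u⟩ : ↥Cfsg.M24) : Equiv.Perm GolayPt) = J4Pres.m24Hom u := by
    have : (Cfsg.M24.subtype.comp (φ.comp (lf.codRestrict _ hlm))) = J4Pres.m24Hom := by
      refine PresentedGroup.ext fun i => ?_
      show ((φ ⟨lf (PresentedGroup.of i), _⟩ : ↥Cfsg.M24) : Equiv.Perm GolayPt) = _
      have e : (⟨lf (PresentedGroup.of i), hlm _⟩ : ↥(Subgroup.normalizer (V : Set G))) = ⟨f i.val, hfm _⟩ :=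
        Subtype.ext (PresentedGroup.toGroup.of _)
      rw [e, hfφ _ (by omega)]
      unfold J4Pres.m24Hom
      exact (@PresentedGroup.toGroup.of _ _ _ (fun i : Fin 2 => J4Pres.m24Act i.val) _ _ _).symm
    exact fun u => DFunLike.congr_fun this u
  let ψ : J4Pres.M24P →* ↥Cfsg.M24 := J4Pres.m24Hom.codRestrict Cfsg.M24 fun u => by
    rw [← J4Pres.m24Hom_range]; exact ⟨u, rfl⟩
  have hψ : Function.Bijective ψ := by
    refine ⟨fun a b h => J4Pres.m24Hom_injective (congrArg Subtype.val h), fun σ => ?_⟩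
    obtain ⟨u, hu⟩ : (σ : Equiv.Perm GolayPt) ∈ J4Pres.m24Hom.range := by
      rw [J4Pres.m24Hom_range]; exact σ.2
    exact ⟨u, Subtype.ext hu⟩
  let e := MulEquiv.ofBijective ψ hψ
  let k' : ↥Cfsg.M24 →* G := lf.comp e.symm.toMonoidHom
  have S' : Section (J := J) (g := g) (vec := vec) φ k' :=
    ⟨hker, hpairs, fun σ => hlm _, fun σ => Subtype.ext (by
      show ((φ ⟨lf (e.symm σ), hlm _⟩ : ↥Cfsg.M24) : Equiv.Perm GolayPt) = σ
      rw [hact]
      exact congrArg Subtype.val (e.apply_symm_apply σ))⟩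
  refine ⟨V, ⟨realOf D S' ?_⟩⟩
  have h0 : (⟨toPerm xImg, mem_of_in img_ok.1⟩ : ↥Cfsg.M24) = e (PresentedGroup.of 0) := by
    apply Subtype.ext
    show toPerm xImg = J4Pres.m24Hom (PresentedGroup.of 0)
    rw [J4Pres.m24Hom, PresentedGroup.toGroup.of, J4Pres.m24Act, img_ok.2.2.2.2.1]
    rfl
  have hke : elOf D k' (0, xImg) = elOf D k (29, xImg) := by
    rw [el_zero D S' img_ok.1]
    show lf (e.symm _) = _
    rw [h0, e.symm_apply_apply, PresentedGroup.toGroup.of]
    rfl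
  rw [hke]
  exact x_twist D S hx

end CfsgLib.JFourUniq
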