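import Cfsg.Agent.Lib.JFourUniq.Central

/-!
# The third generator on the meet of the normalizer with its image

The third generator is the involution of a chosen element of order three; its action on a pair determines its action
on the meet of the normalizer with its image.
-/

set_option autoImplicit false
set_option maxRecDepth 100000
set_option linter.unusedSectionVars false

open Cfsg

namespace CfsgLib.JFourUniq

open CfsgLib.CosetEnum (prodW)

/-- The hypotheses on the third generator. -/
structure Third {G : Type*} [Group G] [Finite G] {z : G} {V : Subgroup G} (R : Real G z V) (t : G) : Prop where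
  two : orderOf z = 2
  central : IsCentralInv z (R.el e3C) t

theorem normW_fixW {w : List ℕ} (h : normW w = true) : fixW w = true := by
  simp only [normW, fixW, List.all_eq_true, Nat.blt_eq] at h ⊢
  exact fun k hk => lt_trans (h k hk) (by norm_num)

theorem fixW_anyW {w : List ℕ} (h : fixW w = true) : anyW w = true := by
  simp only [fixW, anyW, List.all_eq_true, Nat.blt_eq] at h ⊢
  exact fun k hk => lt_trans (h k hk) (by norm_num)

namespace Third

variable {G : Type*} [Group G] [Finite G] [IsSimpleGroup G] {z : G} {V : Subgroup G} {R : Real G z V} {t : G}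
variable (T : Third R t)
include T

omit [IsSimpleGroup G] in
theorem tt : t * t = 1 := (R.z_not_one T.two T.central.1).1

omit [IsSimpleGroup G] in
theorem inv_t : t⁻¹ = t := inv_eq_of_mul_eq_one_right T.tt

omit [IsSimpleGroup G] T in
theorem consts : okC e3C = true ∧ okC e3iC = true ∧ okC alC = true ∧ okC e3pC = true ∧ okC dC = true ∧
    okC cdC = true ∧ okC tgC = true ∧ okC eC = true ∧ okC xC = true ∧ genC.all okC = true ∧
    imgC.all okC = true := by decide +kernel

omit [IsSimpleGroup G] in
theorem norm_comm {k : ℕ} (hk : k < 6) : t * R.el (genC.getD k cOne) = R.el (genC.getD k cOne) * t := by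
  obtain ⟨he, hei, -, -, -, -, -, -, -, hg, -⟩ := consts
  have h := norm_ok
  simp only [List.all_eq_true, List.mem_range, Bool.or_eq_true] at h
  refine (T.central.2 _ ?_).symm
  rcases h k hk with h | h
  · exact Or.inl (R.conj (okC_getD hg k) he he h)
  · refine Or.inr ((R.conj (okC_getD hg k) he hei h).trans ?_)
    refine (inv_eq_of_mul_eq_one_right ?_).symm
    rw [R.mul_el he hei, show cMul e3C e3iC = cOne by decide +kernel, R.one]

omit [IsSimpleGroup G] in
theorem word_comm {p : ℕ → Prop} (hp : ∀ k, p k → t * R.el (genC.getD k cOne) = R.el (genC.getD k cOne) * t) :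
    ∀ w : List ℕ, (∀ k ∈ w, p k) → t * R.el (cWord genC w) = R.el (cWord genC w) * t := by
  intro w
  rw [(R.word consts.2.2.2.2.2.2.2.2.2.1 w).2]
  induction w with
  | nil => intro _; simp [prodW]
  | cons i w ih =>
    intro h
    rw [CosetEnum.prodW_cons, ← mul_assoc, hp i (h i List.mem_cons_self), mul_assoc,
      ih fun k hk => h k (List.mem_cons_of_mem _ hk), mul_assoc]

omit [IsSimpleGroup G] in
theorem norm_word {w : List ℕ} (hw : normW w = true) :
    t * R.el (cWord genC w) = R.el (cWord genC w) * t :=
  T.word_comm (p := fun k => k < 6) (fun _ h => T.norm_comm h) w (by simpa [normW] using hw)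

omit [IsSimpleGroup G] in
/-- The third generator is outside the normalizer. -/
theorem notMem : t ∉ Subgroup.normalizer (V : Set G) := by
  intro h
  have hcg : ∀ g ∈ notNG, t * R.el g = R.el g * t := by
    intro g hg
    rw [notN_eq] at hg
    obtain ⟨k, hk, rfl⟩ := List.mem_map.1 hg
    exact T.norm_comm (List.mem_range.1 hk)
  rcases R.search notN_ok h T.tt hcg (fun g hg => absurd hg List.not_mem_nil) with h' | ⟨e, he, -⟩
  · exact (R.z_not_one T.two T.central.1).2 h'
  · exact absurd he List.not_mem_nil

omit [IsSimpleGroup G] in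
theorem al_props : isPairC alC = true ∧ R.el alC * R.el alC = 1 ∧ R.el alC ≠ 1 ∧
    ¬ IsConj z (R.el alC) := by
  obtain ⟨-, -, ha, -, -, -, -, -, -, -, -⟩ := consts
  have hp : isPairC alC = true := by decide +kernel
  refine ⟨hp, ?_, ?_, (R.pair_type ha hp).1⟩
  · rw [R.mul_el ha ha, show cMul alC alC = cOne by decide +kernel, R.one]
  · rw [← R.one]
    exact R.el_ne ha okC_one (by decide +kernel)

/-- The third generator commutes with its translate by the pair. -/
theorem translate_comm : t * (R.el alC * t * R.el alC) = R.el alC * t * R.el alC * t := by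
  obtain ⟨he, -, ha, hep, hd, hcd, -, -, hx, -, -⟩ := consts
  obtain ⟨-, haa, -, -⟩ := T.al_props
  have hainv : (R.el alC)⁻¹ = R.el alC := inv_eq_of_mul_eq_one_right haa
  have hd2 : R.el dC * R.el dC = 1 := by
    rw [R.mul_el hd hd, show cMul dC dC = cOne by decide +kernel, R.one]
  have hd1 : R.el dC ≠ 1 := by
    rw [← R.one]
    exact R.el_ne hd okC_one (by decide +kernel)
  have hxd := R.conj hcd hd hx (by decide +kernel)
  have hdz : ¬ IsConj z (R.el dC) := fun h => by
    refine R.x_type ?_
    rw [show ((0, xImg) : Code) = xC from rfl, ← hxd]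
    exact h.trans (isConj_iff.2 ⟨_, rfl⟩)
  obtain ⟨g, hg⟩ := R.invol _ hd2 hd1 hdz 23 (by norm_num) (by decide +kernel)
  rw [show ((23, idP) : Code) = alC by decide +kernel] at hg
  have he3 : orderOf (R.el e3C) = 3 := by
    haveI : Fact (Nat.Prime 3) := ⟨Nat.prime_three⟩
    refine orderOf_eq_prime ?_ (by rw [← R.one]; exact R.el_ne he okC_one (by decide +kernel))
    rw [pow_three, R.mul_el he he, R.mul_el he (R.ok_mul _ _ he he),
      show cMul e3C (cMul e3C e3C) = cOne by decide +kernel, R.one]
  have key : ∀ e u : G, orderOf e = 3 → e * R.el dC = R.el dC * e → IsCentralInv z e u →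
      ∃ n < 2048, g * u * g⁻¹ = R.el (n, idP) := by
    intro e u h3 hcomm hu
    refine R.central_mem_V T.two (e := g * e * g⁻¹) ?_ ?_ (hu.conj g)
    · rw [← h3]
      exact (MulAut.conj g).orderOf_eq e
    · rw [← hg, show g * e * g⁻¹ * (g * R.el dC * g⁻¹) = g * (e * R.el dC) * g⁻¹ by group, hcomm]
      group
  have hep' : R.el alC * R.el e3C * (R.el alC)⁻¹ = R.el e3pC := R.conj ha he hep (by decide +kernel)
  obtain ⟨n, hn, hn'⟩ := key _ _ he3 (R.comm he hd (by decide +kernel)) T.central
  obtain ⟨m, hm, hm'⟩ := key (R.el e3pC) (R.el alC * t * R.el alC)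
    (by rw [← hep', ← he3]; exact (MulAut.conj (R.el alC)).orderOf_eq _)
    (R.comm hep hd (by decide +kernel))
    (by
      have h := T.central.conj (R.el alC)
      rw [hep'] at h
      rwa [hainv] at h)
  have h := R.vec_comm hn hm
  rw [← hn', ← hm'] at h
  calc t * (R.el alC * t * R.el alC)
      = g⁻¹ * ((g * t * g⁻¹) * (g * (R.el alC * t * R.el alC) * g⁻¹)) * g := by group
    _ = g⁻¹ * ((g * (R.el alC * t * R.el alC) * g⁻¹) * (g * t * g⁻¹)) * g := by rw [h]
    _ = R.el alC * t * R.el alC * t := by group

/-- **The image of the pair.** -/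
theorem t_al : t * R.el alC * t = R.el tgC := by
  obtain ⟨-, -, ha, -, -, -, htg, heC, hx, hgen, -⟩ := consts
  obtain ⟨hpair, haa, hane, hatype⟩ := T.al_props
  have ht2 := T.tt
  have hcm := T.translate_comm
  set a := R.el alC
  have hxa : t * a * t * a * a = a * (t * a * t * a) := by
    calc t * a * t * a * a = (t * (a * t * a)) * a := by simp [mul_assoc]
      _ = a * (t * a * t * a) := by rw [hcm]; simp [mul_assoc]
  have hx2 : t * a * t * a * (t * a * t * a) = 1 := by
    calc t * a * t * a * (t * a * t * a) = t * (a * t * a * t) * a * t * a := by simp [mul_assoc]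
      _ = t * (t * (a * t * a)) * a * t * a := by rw [hcm]
      _ = t * t * a * t * (a * a) * t * a := by simp [mul_assoc]
      _ = t * t * a * (t * t) * a := by rw [haa]; simp [mul_assoc]
      _ = 1 := by rw [ht2, one_mul, mul_one, haa]
  have hxN : t * a * t * a ∈ Subgroup.normalizer (V : Set G) := R.cent_pair ha hpair hxa
  have hxne : t * a * t * a ≠ 1 := by
    intro h
    refine T.notMem (R.cent_pair ha hpair ?_)
    show t * a = a * t
    calc t * a = (t * a * t * a) * (a * t) := by
          rw [show t * a * t * a * (a * t) = t * a * (t * (a * a) * t) by simp [mul_assoc], haa, mul_one, ht2, mul_one]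
      _ = a * t := by rw [h, one_mul]
  have hT0 : t * a * t * a * a = t * a * t := by rw [mul_assoc _ a a, haa, mul_one]
  have hEok : ∀ g ∈ pairE.map Prod.fst, okC g = true := by
    intro g hg
    obtain ⟨p, hp, rfl⟩ := List.mem_map.1 hg
    have h := List.all_eq_true.1 pair_rej p hp
    simp only [Bool.and_eq_true] at h
    exact h.1
  have hcg : ∀ g ∈ pairG, t * a * t * a * R.el g = R.el g * (t * a * t * a) := by
    intro g hg
    have hg' := List.all_eq_true.1 pair_gens g hg
    simp only [Bool.or_eq_true, Bool.and_eq_true, cEq_iff, List.any_eq_true] at hg'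
    rcases hg' with rfl | ⟨hga, w, -, hw, rfl⟩
    · exact hxa
    · have h1 := R.comm (R.word hgen w).1 ha (cEq_iff.2 hga)
      have h2 := T.norm_word hw
      set s := R.el (cWord genC w)
      have h1' : a * s = s * a := h1.symm
      calc t * a * t * a * s = t * a * t * (a * s) := by simp [mul_assoc]
        _ = t * a * (t * s) * a := by rw [h1']; simp [mul_assoc]
        _ = t * (a * s) * t * a := by rw [h2]; simp [mul_assoc]
        _ = t * s * a * t * a := by rw [h1']; simp [mul_assoc]
        _ = s * (t * a * t * a) := by rw [h2]; simp [mul_assoc]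
  rcases R.search pair_ok hxN hx2 hcg hEok with h | ⟨c, hc, hcx⟩
  · exact absurd h hxne
  · obtain ⟨⟨c, r⟩, hp, rfl⟩ := List.mem_map.1 hc
    have hr := List.all_eq_true.1 pair_rej _ hp
    simp only [Bool.and_eq_true] at hr
    obtain ⟨hcok, hrej⟩ := hr
    change t * a * t * a = R.el c at hcx
    have hok := R.ok_mul _ _ hcok ha
    have hel : R.el (cMul c alC) = t * a * t := by rw [← R.mul_el hcok ha, ← hcx, hT0]
    have hty : ¬ IsConj z (t * a * t) := fun h => hatype (h.trans (isConj_iff.2 ⟨t, by
      rw [T.inv_t, show t * (t * a * t) * t = (t * t) * a * (t * t) by simp [mul_assoc], ht2, one_mul, mul_one]⟩))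
    cases r with
    | ok => simp only [rejOK, cEq_iff] at hrej; rw [← hel, hrej]
    | vec =>
      exfalso
      simp only [rejOK, Bool.and_eq_true, Bool.or_eq_true, Nat.beq_eq, Bool.not_eq_true'] at hrej
      obtain ⟨hv, h0⟩ := hrej
      by_cases h00 : (cMul c alC).1 = 0
      · rw [isVec_iff hv, h00] at hel
        refine hane ?_
        calc a = t * (t * a * t) * t := by
              rw [show t * (t * a * t) * t = (t * t) * a * (t * t) by simp [mul_assoc], ht2, one_mul, mul_one]
          _ = 1 := by rw [← hel, show ((0, idP) : Code) = cOne from rfl, R.one, mul_one, ht2]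
      · refine hty (hel ▸ R.oct_type hok ?_)
        simp only [isOct, Bool.and_eq_true, Bool.not_eq_true', Bool.eq_false_iff, ne_eq, Nat.beq_eq]
        exact ⟨⟨hv, h00⟩, Bool.eq_false_iff.1 (h0.resolve_left h00)⟩
    | octad k =>
      exfalso
      simp only [rejOK, Bool.and_eq_true] at hrej
      have h := R.conj hrej.1 hok heC hrej.2
      rw [hel] at h
      refine hty (R.e_type.trans ?_)
      rw [show ((0, eImg) : Code) = eC from rfl, ← h]
      exact (isConj_iff.2 ⟨_, rfl⟩ : IsConj (t * a * t) _).symm
    | comm w U b =>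
      exfalso
      simp only [rejOK, Bool.and_eq_true, Nat.blt_eq] at hrej
      obtain ⟨⟨⟨⟨⟨hw, hU⟩, hb⟩, hsb⟩, hsU⟩, hne⟩ := hrej
      have hs := R.word hgen w
      have h1 := R.conj hs.1 ha (vec_ok hb) hsb
      have h2 := R.conj hs.1 hok hU hsU
      have hst := T.norm_word hw
      set s := R.el (cWord genC w)
      have hst' : s⁻¹ * t = t * s⁻¹ := by
        calc s⁻¹ * t = s⁻¹ * (t * s) * s⁻¹ := by group
          _ = t * s⁻¹ := by rw [hst]; group
      have hU' : R.el U = t * R.el (b, idP) * t := by
        rw [← h2, hel, ← h1]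
        calc s * (t * a * t) * s⁻¹ = (s * t) * a * (t * s⁻¹) := by simp [mul_assoc]
          _ = (t * s) * a * (s⁻¹ * t) := by rw [hst, hst']
          _ = t * (s * a * s⁻¹) * t := by simp [mul_assoc]
      refine R.el_ne (R.ok_mul _ _ hok hU) (R.ok_mul _ _ hU hok) hne ?_
      rw [← R.mul_el hok hU, ← R.mul_el hU hok, hel, hU']
      have hab : a * R.el (b, idP) = R.el (b, idP) * a := by
        show R.el alC * _ = _ * R.el alC
        rw [show alC = ((23, idP) : Code) by decide +kernel]
        exact R.vec_comm (by norm_num) hb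
      calc t * a * t * (t * R.el (b, idP) * t) = t * a * (t * t) * R.el (b, idP) * t := by simp [mul_assoc]
        _ = t * (a * R.el (b, idP)) * t := by rw [ht2]; simp [mul_assoc]
        _ = t * (R.el (b, idP) * a) * t := by rw [hab]
        _ = t * R.el (b, idP) * (t * t) * a * t := by rw [ht2]; simp [mul_assoc]
        _ = t * R.el (b, idP) * t * (t * a * t) := by simp [mul_assoc]
    | type w U b k =>
      exfalso
      simp only [rejOK, Bool.and_eq_true, Nat.blt_eq] at hrej
      obtain ⟨⟨⟨⟨⟨⟨⟨hw, hU⟩, hk⟩, hb⟩, hsb⟩, hsU⟩, hoct⟩, hkx⟩ := hrej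
      have hs := R.word hgen w
      have h1 := R.conj hs.1 ha (vec_ok hb) hsb
      have h2 := R.conj hs.1 hok hU hsU
      have h3 := R.conj hk (R.ok_mul _ _ hok hU) hx hkx
      have hst := T.norm_word hw
      set s := R.el (cWord genC w)
      have hst' : s⁻¹ * t = t * s⁻¹ := by
        calc s⁻¹ * t = s⁻¹ * (t * s) * s⁻¹ := by group
          _ = t * s⁻¹ := by rw [hst]; group
      have hU' : R.el U = t * R.el (b, idP) * t := by
        rw [← h2, hel, ← h1]
        calc s * (t * a * t) * s⁻¹ = (s * t) * a * (t * s⁻¹) := by simp [mul_assoc]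
          _ = (t * s) * a * (s⁻¹ * t) := by rw [hst, hst']
          _ = t * (s * a * s⁻¹) * t := by simp [mul_assoc]
      have hz := R.oct_type (R.ok_mul _ _ ha (vec_ok hb)) hoct
      rw [← R.mul_el ha (vec_ok hb)] at hz
      refine R.x_type ?_
      rw [show ((0, xImg) : Code) = xC from rfl, ← h3]
      refine (hz.trans (isConj_iff.2 ⟨t, ?_⟩)).trans (isConj_iff.2 ⟨_, rfl⟩)
      rw [T.inv_t, ← R.mul_el hok hU, hel, hU']
      calc t * (a * R.el (b, idP)) * t = t * a * (t * t) * R.el (b, idP) * t := by rw [ht2]; simp [mul_assoc]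
        _ = t * a * t * (t * R.el (b, idP) * t) := by simp [mul_assoc]

theorem img_letter : ∀ k < 18, t * R.el (genC.getD k cOne) * t = R.el (imgC.getD k cOne) := by
  obtain ⟨-, -, ha, -, -, -, htg, -, -, hgen, himg⟩ := consts
  have hfix := img_fixed
  simp only [List.all_eq_true, List.mem_range, cEq_iff] at hfix
  have hp := img_pairs
  simp only [List.all_eq_true, List.mem_range, Bool.and_eq_true, cEq_iff] at hp
  have hpair : ∀ i < 6, t * R.el (genC.getD (12 + i) cOne) * t = R.el (imgC.getD (12 + i) cOne) := by
    intro i hi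
    obtain ⟨⟨⟨⟨hw, h1⟩, h2⟩, -⟩, -⟩ := hp i hi
    have hs := R.word hgen (baW.getD i [])
    have e1 := R.conj hs.1 ha (okC_getD hgen _) h1
    have e2 := R.conj hs.1 htg (okC_getD himg _) h2
    have hst := T.norm_word hw
    set s := R.el (cWord genC (baW.getD i []))
    have hst' : s⁻¹ * t = t * s⁻¹ := by
      calc s⁻¹ * t = s⁻¹ * (t * s) * s⁻¹ := by group
        _ = t * s⁻¹ := by rw [hst]; group
    rw [← e1, ← e2, ← T.t_al]
    calc t * (s * R.el alC * s⁻¹) * t = (t * s) * R.el alC * (s⁻¹ * t) := by simp [mul_assoc]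
      _ = (s * t) * R.el alC * (t * s⁻¹) := by rw [hst, hst']
      _ = s * (t * R.el alC * t) * s⁻¹ := by simp [mul_assoc]
  intro k hk
  by_cases h6 : k < 6
  · rw [← hfix k (by omega), T.norm_comm h6, mul_assoc, T.tt, mul_one]
  by_cases h12 : k < 12
  · obtain ⟨i, rfl⟩ : ∃ i, k = 6 + i := ⟨k - 6, by omega⟩
    obtain ⟨-, h3⟩ := hp i (by omega)
    have h4 := (hp i (by omega)).1.2
    set g := genC.getD (12 + i) cOne
    set m := imgC.getD (12 + i) cOne
    rw [← hfix _ h12]
    have hg : R.el g * R.el m = R.el (genC.getD (6 + i) cOne) := by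
      rw [R.mul_el (okC_getD hgen _) (okC_getD himg _), h4]
    have hm : R.el m * R.el g = R.el (genC.getD (6 + i) cOne) := by
      rw [R.mul_el (okC_getD himg _) (okC_getD hgen _), h3]
    have he : t * R.el g * t = R.el m := hpair i (by omega)
    calc t * R.el (genC.getD (6 + i) cOne) * t = t * (R.el g * R.el m) * t := by rw [hg]
      _ = (t * R.el g * t) * (t * R.el m * t) := by
          rw [show t * R.el g * t * (t * R.el m * t) = t * R.el g * (t * t) * R.el m * t by simp [mul_assoc], T.tt]
          simp [mul_assoc]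
      _ = R.el m * (t * (t * R.el g * t) * t) := by rw [he]
      _ = R.el m * R.el g := by
          rw [show t * (t * R.el g * t) * t = (t * t) * R.el g * (t * t) by simp [mul_assoc], T.tt, one_mul, mul_one]
      _ = R.el (genC.getD (6 + i) cOne) := hm
  · obtain ⟨i, rfl⟩ : ∃ i, k = 12 + i := ⟨k - 12, by omega⟩
    exact hpair i (by omega)

/-- The third generator maps a word in the generators to the word in their images. -/
theorem img_word {w : List ℕ} (hw : anyW w = true) : t * R.el (cWord genC w) * t = R.el (cWord imgC w) := by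
  obtain ⟨-, -, -, -, -, -, -, -, -, hgen, himg⟩ := consts
  simp only [anyW, List.all_eq_true, Nat.blt_eq] at hw
  rw [(R.word hgen w).2, (R.word himg w).2]
  induction w with
  | nil => simpa [prodW] using T.tt
  | cons i w ih =>
    rw [CosetEnum.prodW_cons, CosetEnum.prodW_cons, ← ih fun k hk => hw k (List.mem_cons_of_mem _ hk),
      ← T.img_letter i (hw i List.mem_cons_self)]
    rw [show t * R.el (genC.getD i cOne) * t * (t * prodW (fun i => R.el (genC.getD i cOne)) w * t) =
      t * R.el (genC.getD i cOne) * (t * t) * prodW (fun i => R.el (genC.getD i cOne)) w * t by simp [mul_assoc],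
      T.tt, mul_one]
    simp [mul_assoc]

/-- The third generator commutes with the words in the fixed generators. -/
theorem fix_word {w : List ℕ} (hw : fixW w = true) :
    t * R.el (cWord genC w) = R.el (cWord genC w) * t := by
  refine T.word_comm (p := fun k => k < 12) (fun k hk => ?_) w (by simpa [fixW] using hw)
  have h := T.img_letter k (by omega)
  rw [← cEq_iff.1 (List.all_eq_true.1 img_fixed k (List.mem_range.2 hk))] at h
  calc t * R.el (genC.getD k cOne) = t * R.el (genC.getD k cOne) * (t * t) := by rw [T.tt, mul_one]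
    _ = t * R.el (genC.getD k cOne) * t * t := by simp [mul_assoc]
    _ = R.el (genC.getD k cOne) * t := by rw [h]

end Third

end CfsgLib.JFourUniq
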