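import Cfsg.Agent.Lib.JFourUniq.Pair

/-!
# The two translation relations

Each relation is moved into the normalizer, where the unknown involution is found by the search.
-/

set_option autoImplicit false
set_option maxRecDepth 100000
set_option linter.unusedSectionVars false

open Cfsg

namespace CfsgLib.JFourUniq

variable {G : Type*} [Group G]

theorem conj_comm_pair (g : G) {x y : G} (h : x * y = y * x) :
    g * x * g⁻¹ * (g * y * g⁻¹) = g * y * g⁻¹ * (g * x * g⁻¹) := by
  calc g * x * g⁻¹ * (g * y * g⁻¹) = g * (x * y) * g⁻¹ := by group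
    _ = g * (y * x) * g⁻¹ := by rw [h]
    _ = g * y * g⁻¹ * (g * x * g⁻¹) := by group

theorem conj_mul3 (g a b c : G) :
    g * (a * b * c) * g⁻¹ = g * a * g⁻¹ * (g * b * g⁻¹) * (g * c * g⁻¹) := by group

theorem eq_one_of_conj {g x : G} (h : g * x * g⁻¹ = 1) : x = 1 := by
  calc x = g⁻¹ * (g * x * g⁻¹) * g := by group
    _ = 1 := by rw [h]; group

namespace Third

variable [Finite G] [IsSimpleGroup G] {z : G} {V : Subgroup G} {R : Real G z V} {t : G} (T : Third R t)
include T

theorem flip_word {w : List ℕ} (hw : anyW w = true) :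
    t * R.el (cWord imgC w) * t⁻¹ = R.el (cWord genC w) := by
  rw [← T.img_word hw, T.inv_t,
    show t * (t * R.el (cWord genC w) * t) * t = (t * t) * R.el (cWord genC w) * (t * t) by simp [mul_assoc],
    T.tt, one_mul, mul_one]

theorem push_word {w : List ℕ} (hw : anyW w = true) :
    t * R.el (cWord genC w) * t⁻¹ = R.el (cWord imgC w) := by
  rw [T.inv_t, T.img_word hw]

/-- An involution conjugate to `z` is not moved to the image of a pair. -/
theorem not_moved {c k : Code} {w : List ℕ} (hc : okC c = true) (h : movedOK c k w = true)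
    (hz : IsConj z (R.el c)) : False := by
  obtain ⟨-, -, -, -, -, -, -, -, -, hgen, himg⟩ := Third.consts
  simp only [movedOK, Bool.and_eq_true] at h
  obtain ⟨⟨⟨hk, hw⟩, hp⟩, hcj⟩ := h
  have h1 := R.conj hk hc (R.word himg w).1 hcj
  refine (R.pair_type (R.word hgen w).1 hp).1 ((hz.trans (isConj_iff.2 ⟨_, h1⟩)).trans ?_)
  exact isConj_iff.2 ⟨t, T.flip_word hw⟩

theorem isConj_conj (g : G) {x : G} (h : IsConj z x) : IsConj z (g * x * g⁻¹) :=
  h.trans (isConj_iff.2 ⟨g, rfl⟩)

/-- The first translation relation. -/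
theorem rel_one : (R.el yC * ((R.el uC)⁻¹ * t * R.el uC)) ^ 3 = 1 := by
  obtain ⟨-, -, -, -, -, -, -, -, -, hgen, himg⟩ := Third.consts
  obtain ⟨hu, hy, hy1, hc⟩ : okC uC = true ∧ okC yC = true ∧ okC y1C = true ∧ okC r1c = true := by decide +kernel
  have h := r1_ok
  simp only [Bool.and_eq_true, List.all_eq_true] at h
  obtain ⟨⟨⟨⟨⟨⟨⟨⟨hU, hd⟩, hb⟩, hyw⟩, hpb⟩, hcd⟩, hdy⟩, hcy⟩, hG⟩ := h
  have eU := R.conj hu hy hy1 hU
  have eD := R.conj hc (R.word hgen r1d).1 (R.word himg r1b).1 hcd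
  have eY := R.conj hc hy1 (R.word hgen r1y).1 hcy
  set U := R.el uC
  set c := R.el r1c
  set Y1 := R.el y1C
  set B := R.el (cWord genC r1b)
  suffices h3 : (Y1 * t) ^ 3 = 1 by
    rw [show R.el yC * (U⁻¹ * t * U) = U⁻¹ * (Y1 * t) * U⁻¹⁻¹ by rw [← eU]; group, conj_pow, h3]
    group
  set Q := t * (c * t * c⁻¹) * t⁻¹
  have hQz : IsConj z Q := T.isConj_conj _ (T.isConj_conj _ T.central.1)
  have hQB : Q * B = B * Q := by
    rw [show B = t * R.el (cWord imgC r1b) * t⁻¹ from (T.flip_word hb).symm, ← eD]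
    exact conj_comm_pair t (conj_comm_pair c (T.fix_word hd))
  have hQN := R.cent_pair (R.word hgen r1b).1 hpb hQB
  have hEok : ∀ g ∈ r1E.map Prod.fst, okC g = true := by
    intro g hg
    obtain ⟨p, hp, rfl⟩ := List.mem_map.1 hg
    have h := List.all_eq_true.1 r1_cand p hp
    simp only [Bool.and_eq_true] at h
    exact h.1
  have hcg : ∀ g ∈ r1L, Q * R.el g = R.el g * Q := by
    intro g hg
    rcases List.mem_cons.1 hg with rfl | hg
    · exact hQB
    · obtain ⟨p, hp, rfl⟩ := List.mem_map.1 hg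
      obtain ⟨⟨hp1, hp2⟩, hp3⟩ := hG p hp
      rw [← T.push_word hp2, ← R.conj hc (R.word hgen p.1).1 (R.word hgen p.2).1 hp3]
      exact conj_comm_pair t (conj_comm_pair c (T.fix_word hp1))
  rcases R.search r1_search hQN (R.z_not_one T.two hQz).1 hcg hEok with h | ⟨q, hq, hqe⟩
  · exact absurd h (R.z_not_one T.two hQz).2
  · obtain ⟨⟨q, r⟩, hp, rfl⟩ := List.mem_map.1 hq
    have hr := List.all_eq_true.1 r1_cand _ hp
    simp only [Bool.and_eq_true] at hr
    obtain ⟨hqok, hr⟩ := hr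
    change Q = R.el q at hqe
    cases r with
    | moved k w => exact (T.not_moved hqok hr (hqe ▸ hQz)).elim
    | semi _ => simp [r1OK] at hr
    | pair => simp [r1OK] at hr
    | img _ _ => simp [r1OK] at hr
    | ok =>
      simp only [r1OK, cEq_iff] at hr
      have hyi := (R.word himg r1y).1
      have hm := R.ok_mul _ _ hyi hqok
      have h3 : (R.el (cWord imgC r1y) * Q) ^ 3 = 1 := by
        rw [hqe, R.mul_el hyi hqok, pow_three, R.mul_el hm hm, R.mul_el hm (R.ok_mul _ _ hm hm), hr, R.one]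
      rw [← T.push_word hyw, ← eY,
        show t * (c * Y1 * c⁻¹) * t⁻¹ * (t * (c * t * c⁻¹) * t⁻¹) = (t * c) * (Y1 * t) * (t * c)⁻¹ by group,
        conj_pow] at h3
      exact eq_one_of_conj h3

/-- The second translation relation. -/
theorem rel_two : (R.el aC * t * ((R.el vC)⁻¹ * t * R.el vC)) ^ 2 = 1 := by
  obtain ⟨-, -, -, -, -, -, -, -, -, hgen, himg⟩ := Third.consts
  obtain ⟨ha, hv, hvi, hc, hk, hX, hc2⟩ : okC aC = true ∧ okC vC = true ∧ okC viC = true ∧ okC r2c = true ∧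
      okC r2k = true ∧ okC r2X = true ∧ okC r2c2 = true := by decide +kernel
  have h := r2_ok
  simp only [Bool.and_eq_true] at h
  obtain ⟨⟨⟨⟨⟨⟨⟨⟨⟨⟨⟨⟨⟨⟨⟨⟨⟨⟨⟨hd, hdv⟩, hh⟩, ho⟩, haw⟩, hb⟩, hb2⟩, ha2⟩, hx2⟩, hpb⟩, hpb2⟩, hda⟩, hvd⟩, hck⟩,
    hca⟩, hcd⟩, hkh⟩, hc2o⟩, hc2a⟩, hc2x⟩ := h
  have hG := r2_gens
  simp only [Bool.and_eq_true, List.all_eq_true] at hG
  obtain ⟨hG1, hG2⟩ := hG
  have hE := r2_cand
  simp only [Bool.and_eq_true, List.all_eq_true] at hE
  obtain ⟨hE1, hE2⟩ := hE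
  have evi : (R.el vC)⁻¹ = R.el viC := by
    refine inv_eq_of_mul_eq_one_right ?_
    rw [R.mul_el hv hvi, show cMul vC viC = cOne by decide +kernel, R.one]
  have ek : R.el r2c * (R.el vC)⁻¹ = R.el r2k := by rw [evi, R.mul_el hc hvi, cEq_iff.1 hck]
  have eA := R.conj hc ha (R.word hgen r2a).1 hca
  have eD := R.conj hc (R.word hgen r2d).1 (R.word hgen r2o).1 hcd
  have eH := R.conj hk (R.word hgen r2h).1 (R.word himg r2b).1 hkh
  have eO := R.conj hc2 (R.word himg r2o).1 (R.word himg r2b2).1 hc2o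
  have eA2 := R.conj hc2 (R.word himg r2a).1 (R.word hgen r2a2).1 hc2a
  have eX2 := R.conj hc2 hX (R.word hgen r2x2).1 hc2x
  set c := R.el r2c
  set K := R.el r2k
  set c2 := R.el r2c2
  set Q := t * (K * t * K⁻¹) * t⁻¹
  set P := t * (c * t * c⁻¹) * t⁻¹
  set Z := t * (c2 * P * c2⁻¹) * t⁻¹
  have hK : K ∈ Subgroup.normalizer (V : Set G) := R.mem _ hk
  have hcN : c ∈ Subgroup.normalizer (V : Set G) := R.mem _ hc
  have hQz : IsConj z Q := T.isConj_conj _ (T.isConj_conj _ T.central.1)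
  have hZz : IsConj z Z := T.isConj_conj _ (T.isConj_conj _ (T.isConj_conj _ (T.isConj_conj _ T.central.1)))
  have hQB : Q * R.el (cWord genC r2b) = R.el (cWord genC r2b) * Q := by
    rw [← T.flip_word hb, ← eH]
    exact conj_comm_pair t (conj_comm_pair K (T.fix_word hh))
  have hcq : ∀ g ∈ r2L, Q * R.el g = R.el g * Q := by
    intro g hg
    rcases List.mem_cons.1 hg with rfl | hg
    · exact hQB
    · obtain ⟨p, hp, rfl⟩ := List.mem_map.1 hg
      obtain ⟨⟨hp1, hp2⟩, hp3⟩ := hG1 p hp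
      rw [← T.push_word hp2, ← R.conj hk (R.word hgen p.1).1 (R.word hgen p.2).1 hp3]
      exact conj_comm_pair t (conj_comm_pair K (T.fix_word hp1))
  have hcqE : ∀ g ∈ r2E.map Prod.fst, okC g = true := by
    intro g hg
    obtain ⟨p, hp, rfl⟩ := List.mem_map.1 hg
    exact (hE1 p hp).1
  -- the second involution
  have hQX : Q = R.el r2X := by
    rcases R.search r2_search (R.cent_pair (R.word hgen r2b).1 hpb hQB) (R.z_not_one T.two hQz).1
      hcq hcqE with h | ⟨q, hq, hqe⟩
    · exact absurd h (R.z_not_one T.two hQz).2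
    · obtain ⟨⟨q, r⟩, hp, rfl⟩ := List.mem_map.1 hq
      obtain ⟨hqok, hr⟩ := hE1 _ hp
      change Q = R.el q at hqe
      cases r with
      | moved k w => exact (T.not_moved hqok hr (hqe ▸ hQz)).elim
      | semi _ => simp [r2OK] at hr
      | pair => simp [r2OK] at hr
      | img w _ =>
        exfalso
        simp only [r2OK, Bool.and_eq_true, cEq_iff] at hr
        rw [hr.2, ← T.push_word hr.1] at hqe
        have e : K * t * K⁻¹ = R.el (cWord genC w) :=
          mul_left_cancel (mul_right_cancel hqe)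
        refine T.notMem ?_
        rw [show t = K⁻¹ * (K * t * K⁻¹) * K by group, e]
        exact mul_mem (mul_mem (inv_mem hK) (R.mem _ (R.word hgen w).1)) hK
      | ok => simp only [r2OK, cEq_iff] at hr; rw [hqe, hr]
  -- the first involution, moved twice
  have hPO : P * R.el (cWord imgC r2o) = R.el (cWord imgC r2o) * P := by
    rw [← T.push_word ho, ← eD]
    exact conj_comm_pair t (conj_comm_pair c (T.fix_word hd))
  have hZB : Z * R.el (cWord genC r2b2) = R.el (cWord genC r2b2) * Z := by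
    rw [← T.flip_word hb2, ← eO]
    exact conj_comm_pair t (conj_comm_pair c2 hPO)
  have hcz : ∀ g ∈ r2L2, Z * R.el g = R.el g * Z := by
    intro g hg
    rcases List.mem_cons.1 hg with rfl | hg
    · exact hZB
    · obtain ⟨p, hp, rfl⟩ := List.mem_map.1 hg
      obtain ⟨⟨⟨⟨hp1, hp2⟩, hp3⟩, hp4⟩, hp5⟩ := hG2 p hp
      rw [← T.push_word hp3, ← R.conj hc2 (R.word himg p.2.1).1 (R.word hgen p.2.2).1 hp5]
      refine conj_comm_pair t (conj_comm_pair c2 ?_)
      rw [← T.push_word hp2, ← R.conj hc (R.word hgen p.1).1 (R.word hgen p.2.1).1 hp4]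
      exact conj_comm_pair t (conj_comm_pair c (T.fix_word hp1))
  have hczE : ∀ g ∈ r2E2.map Prod.fst, okC g = true := by
    intro g hg
    obtain ⟨p, hp, rfl⟩ := List.mem_map.1 hg
    exact (hE2 p hp).1
  have h2 : (R.el (cWord imgC r2a2) * Z * R.el (cWord imgC r2x2)) ^ 2 = 1 := by
    rcases R.search r2_search2 (R.cent_pair (R.word hgen r2b2).1 hpb2 hZB) (R.z_not_one T.two hZz).1
      hcz hczE with h | ⟨q, hq, hqe⟩
    · exact absurd h (R.z_not_one T.two hZz).2
    · obtain ⟨⟨q, r⟩, hp, rfl⟩ := List.mem_map.1 hq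
      obtain ⟨hqok, hr⟩ := hE2 _ hp
      change Z = R.el q at hqe
      cases r with
      | semi _ => simp [r2OK2] at hr
      | moved _ _ => simp [r2OK2] at hr
      | pair => exact ((R.pair_type hqok hr).1 (hqe ▸ hZz)).elim
      | img w w2 =>
        exfalso
        simp only [r2OK2, Bool.and_eq_true, cEq_iff] at hr
        obtain ⟨⟨⟨hw, hw2⟩, hqq⟩, hcw⟩ := hr
        rw [hqq, ← T.push_word hw2, ← R.conj hc2 (R.word himg w).1 (R.word hgen w2).1 hcw] at hqe
        have e : c * t * c⁻¹ = R.el (cWord genC w) := by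
          have e1 : P = R.el (cWord imgC w) :=
            mul_left_cancel (mul_right_cancel (mul_left_cancel (mul_right_cancel hqe)))
          rw [← T.push_word hw] at e1
          exact mul_left_cancel (mul_right_cancel e1)
        refine T.notMem ?_
        rw [show t = c⁻¹ * (c * t * c⁻¹) * c by group, e]
        exact mul_mem (mul_mem (inv_mem hcN) (R.mem _ (R.word hgen w).1)) hcN
      | ok =>
        simp only [r2OK2, cEq_iff] at hr
        have ha' := (R.word himg r2a2).1
        have hx' := (R.word himg r2x2).1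
        have hm := R.ok_mul _ _ (R.ok_mul _ _ ha' hqok) hx'
        rw [hqe, R.mul_el ha' hqok, R.mul_el (R.ok_mul _ _ ha' hqok) hx', pow_two, R.mul_el hm hm, hr, R.one]
  rw [← T.push_word ha2, ← T.push_word hx2, ← eA2, ← eX2, ← hQX, ← conj_mul3, ← conj_mul3,
    ← T.push_word haw, ← eA, ← conj_mul3, conj_pow] at h2
  have h3 := eq_one_of_conj h2
  rw [conj_pow] at h3
  have h4 := eq_one_of_conj h3
  rw [conj_pow] at h4
  have h5 := eq_one_of_conj h4
  have e : c * (R.el aC * t * ((R.el vC)⁻¹ * t * R.el vC)) * c⁻¹ =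
      c * R.el aC * c⁻¹ * (c * t * c⁻¹) * (K * t * K⁻¹) := by rw [← ek]; group
  apply eq_one_of_conj (g := c)
  rw [← conj_pow, e]
  exact h5

end Third

end CfsgLib.JFourUniq
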